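import Mathlib

set_option autoImplicit false
set_option linter.unusedSectionVars false

/-!
Scott's lemma for three permutations with product one, in the form of Ree's inequality on the
numbers of cycles, and the number of cycles of a permutation of prime order.  Everything is
expressed through the space of rational functions invariant under a permutation.
-/

namespace Cfsg.Agent.Helper9.Ree

open Module

variable {α : Type*} [Fintype α] [DecidableEq α]

/-- composition with a permutation, on rational functions. -/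
noncomputable def tOp (σ : Equiv.Perm α) : (α → ℚ) →ₗ[ℚ] (α → ℚ) := LinearMap.funLeft ℚ ℚ σ

/-- the operator `v ↦ v ∘ σ - v`. -/
noncomputable def dOp (σ : Equiv.Perm α) : (α → ℚ) →ₗ[ℚ] (α → ℚ) := tOp σ - LinearMap.id

theorem tOp_apply (σ : Equiv.Perm α) (v : α → ℚ) (a : α) : tOp σ v a = v (σ a) := rfl

theorem dOp_apply (σ : Equiv.Perm α) (v : α → ℚ) (a : α) : dOp σ v a = v (σ a) - v a := rfl

theorem mem_ker_dOp (σ : Equiv.Perm α) (v : α → ℚ) :
    v ∈ LinearMap.ker (dOp σ) ↔ ∀ a, v (σ a) = v a := by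
  rw [LinearMap.mem_ker]
  constructor
  · intro h a
    have := congrFun h a
    rw [dOp_apply] at this
    exact sub_eq_zero.mp this
  · intro h
    funext a
    rw [dOp_apply, h a, sub_self]
    rfl

/-- the dot product, as a bilinear form. -/
noncomputable def dotB : LinearMap.BilinForm ℚ (α → ℚ) :=
  LinearMap.mk₂ ℚ (fun v w => v ⬝ᵥ w) add_dotProduct smul_dotProduct dotProduct_add dotProduct_smul

theorem dotB_apply (v w : α → ℚ) : dotB v w = ∑ a, v a * w a := rfl

/-- a function orthogonal to the range of `dOp σ` is invariant under `σ`. -/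
theorem mem_ker_of_orthogonal (σ : Equiv.Perm α) (m : α → ℚ)
    (h : ∀ v, dotB (dOp σ v) m = 0) : m ∈ LinearMap.ker (dOp σ) := by
  rw [mem_ker_dOp]
  intro c
  have h1 := h (Pi.single (σ c) 1)
  rw [dotB_apply] at h1
  simp only [dOp_apply, sub_mul] at h1
  rw [Finset.sum_sub_distrib] at h1
  have e1 : ∑ a, (Pi.single (σ c) (1 : ℚ) : α → ℚ) (σ a) * m a = m c := by
    rw [Finset.sum_eq_single c]
    · simp
    · intro b _ hb
      rw [Pi.single_apply, if_neg (fun hh => hb (σ.injective hh)), zero_mul]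
    · intro hc
      exact absurd (Finset.mem_univ c) hc
  have e2 : ∑ a, (Pi.single (σ c) (1 : ℚ) : α → ℚ) a * m a = m (σ c) := by
    rw [Finset.sum_eq_single (σ c)]
    · simp
    · intro b _ hb
      rw [Pi.single_apply, if_neg hb, zero_mul]
    · intro hc
      exact absurd (Finset.mem_univ _) hc
  rw [e1, e2] at h1
  linarith

theorem finrank_range_dOp (σ : Equiv.Perm α) :
    finrank ℚ (LinearMap.range (dOp σ)) + finrank ℚ (LinearMap.ker (dOp σ)) = Fintype.card α := by
  rw [LinearMap.finrank_range_add_finrank_ker, Module.finrank_fintype_fun_eq_card]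

/-- Scott's lemma for three permutations with product one (Ree's inequality). -/
theorem scott (x y z : Equiv.Perm α) (h : x * y * z = 1) :
    finrank ℚ (LinearMap.ker (dOp x)) + finrank ℚ (LinearMap.ker (dOp y)) +
      finrank ℚ (LinearMap.ker (dOp z)) ≤ Fintype.card α +
      2 * finrank ℚ ↥(LinearMap.ker (dOp x) ⊓ LinearMap.ker (dOp y) ⊓ LinearMap.ker (dOp z)) := by
  let β : (α → ℚ) →ₗ[ℚ]
      (LinearMap.range (dOp x) × LinearMap.range (dOp y) × LinearMap.range (dOp z)) :=
    (dOp x).rangeRestrict.prod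
      ((((dOp y).rangeRestrict).comp (tOp x)).prod
        (((dOp z).rangeRestrict).comp ((tOp y).comp (tOp x))))
  let δ : (LinearMap.range (dOp x) × LinearMap.range (dOp y) × LinearMap.range (dOp z)) →ₗ[ℚ]
      (α → ℚ) :=
    (LinearMap.range (dOp x)).subtype.coprod
      ((LinearMap.range (dOp y)).subtype.coprod (LinearMap.range (dOp z)).subtype)
  have hδ : ∀ t, δ t = (t.1 : α → ℚ) + ((t.2.1 : α → ℚ) + (t.2.2 : α → ℚ)) := fun t => rfl
  have hβ1 : ∀ v, ((β v).1 : α → ℚ) = dOp x v := fun v => rfl
  have hβ2 : ∀ v, ((β v).2.1 : α → ℚ) = dOp y (tOp x v) := fun v => rfl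
  have hβ3 : ∀ v, ((β v).2.2 : α → ℚ) = dOp z (tOp y (tOp x v)) := fun v => rfl
  have hδβ : ∀ v, δ (β v) = 0 := by
    intro v
    rw [hδ, hβ1, hβ2, hβ3]
    funext a
    have hh : x (y (z a)) = a := by
      have := congrArg (fun g : Equiv.Perm α => g a) h
      simpa [Equiv.Perm.mul_apply] using this
    simp only [Pi.add_apply, dOp_apply, tOp_apply, Pi.zero_apply]
    rw [hh]
    ring
  have hle : LinearMap.range β ≤ LinearMap.ker δ := by
    rintro _ ⟨v, rfl⟩
    exact hδβ v
  have hkβ : LinearMap.ker β ≤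
      LinearMap.ker (dOp x) ⊓ LinearMap.ker (dOp y) ⊓ LinearMap.ker (dOp z) := by
    intro v hv
    rw [LinearMap.mem_ker] at hv
    have h1 : (dOp x) v = 0 := by
      rw [← hβ1, hv]
      rfl
    have hx : tOp x v = v := by
      have : tOp x v - v = 0 := h1
      exact sub_eq_zero.mp this
    have h2 : (dOp y) v = 0 := by
      have : dOp y (tOp x v) = 0 := by
        rw [← hβ2, hv]
        rfl
      rwa [hx] at this
    have hy : tOp y v = v := by
      have : tOp y v - v = 0 := h2
      exact sub_eq_zero.mp this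
    have h3 : (dOp z) v = 0 := by
      have : dOp z (tOp y (tOp x v)) = 0 := by
        rw [← hβ3, hv]
        rfl
      rwa [hx, hy] at this
    exact ⟨⟨h1, h2⟩, h3⟩
  -- the range of δ has small orthogonal
  have horth : (dotB (α := α)).orthogonal (LinearMap.range δ) ≤
      LinearMap.ker (dOp x) ⊓ LinearMap.ker (dOp y) ⊓ LinearMap.ker (dOp z) := by
    intro m hm
    have hm' : ∀ w ∈ LinearMap.range δ, dotB w m = 0 := fun w hw => hm w hw
    refine ⟨⟨?_, ?_⟩, ?_⟩
    · apply mem_ker_of_orthogonal
      intro v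
      apply hm'
      refine ⟨(⟨dOp x v, ⟨v, rfl⟩⟩, 0, 0), ?_⟩
      rw [hδ]
      simp
    · apply mem_ker_of_orthogonal
      intro v
      apply hm'
      refine ⟨(0, ⟨dOp y v, ⟨v, rfl⟩⟩, 0), ?_⟩
      rw [hδ]
      simp
    · apply mem_ker_of_orthogonal
      intro v
      apply hm'
      refine ⟨(0, 0, ⟨dOp z v, ⟨v, rfl⟩⟩), ?_⟩
      rw [hδ]
      simp
  have e1 := LinearMap.finrank_range_add_finrank_ker β
  have e2 := LinearMap.finrank_range_add_finrank_ker δ
  have e3 : finrank ℚ
      (LinearMap.range (dOp x) × LinearMap.range (dOp y) × LinearMap.range (dOp z)) =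
      finrank ℚ (LinearMap.range (dOp x)) +
        (finrank ℚ (LinearMap.range (dOp y)) + finrank ℚ (LinearMap.range (dOp z))) := by
    rw [Module.finrank_prod, Module.finrank_prod]
  have e4 := Submodule.finrank_mono hle
  have e5 := Submodule.finrank_mono hkβ
  have e6 := Submodule.finrank_mono horth
  have e7 := LinearMap.BilinForm.finrank_add_finrank_orthogonal' (B := dotB (α := α))
    (LinearMap.range δ)
  have e8 : finrank ℚ (α → ℚ) = Fintype.card α := Module.finrank_fintype_fun_eq_card ℚ
  have ex := finrank_range_dOp x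
  have ey := finrank_range_dOp y
  have ez := finrank_range_dOp z
  rw [e3] at e2
  rw [e8] at e1 e7
  generalize finrank ℚ ↥(LinearMap.range β) = rβ at *
  generalize finrank ℚ ↥(LinearMap.ker β) = kβ at *
  generalize finrank ℚ ↥(LinearMap.range δ) = rδ at *
  generalize finrank ℚ ↥(LinearMap.ker δ) = kδ at *
  generalize finrank ℚ ↥(LinearMap.range (dOp x)) = rx at *
  generalize finrank ℚ ↥(LinearMap.range (dOp y)) = ry at *
  generalize finrank ℚ ↥(LinearMap.range (dOp z)) = rz at *
  omega

/-- the number of fixed points. -/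
def fixN (σ : Equiv.Perm α) : ℕ := (Finset.univ.filter (fun a => σ a = a)).card

theorem trace_tOp (σ : Equiv.Perm α) : LinearMap.trace ℚ (α → ℚ) (tOp σ) = fixN σ := by
  rw [LinearMap.trace_eq_matrix_trace ℚ (Pi.basisFun ℚ α), LinearMap.toMatrix_eq_toMatrix',
    Matrix.trace]
  simp only [Matrix.diag_apply, LinearMap.toMatrix'_apply]
  unfold fixN
  rw [Finset.card_filter]
  push_cast
  apply Finset.sum_congr rfl
  intro a _
  rw [tOp_apply]
  by_cases h : σ a = a
  · rw [if_pos h, h]
    simp
  · rw [if_neg h]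
    simp [h]

theorem tOp_pow (σ : Equiv.Perm α) (k : ℕ) : (tOp σ) ^ k = tOp (σ ^ k) := by
  induction k with
  | zero =>
    refine LinearMap.ext fun v => funext fun a => ?_
    simp [tOp_apply]
  | succ k ih =>
    rw [pow_succ, ih, pow_succ']
    refine LinearMap.ext fun v => funext fun a => ?_
    rw [Module.End.mul_apply, tOp_apply, tOp_apply, tOp_apply, Equiv.Perm.mul_apply]

theorem fixN_pow (σ : Equiv.Perm α) (p : ℕ) (hp : p.Prime) (hσ : orderOf σ = p) (k : ℕ)
    (hk0 : 0 < k) (hkp : k < p) : fixN (σ ^ k) = fixN σ := by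
  have hco : Nat.Coprime k (orderOf σ) := by
    rw [hσ]
    exact ((Nat.Prime.coprime_iff_not_dvd hp).mpr (Nat.not_dvd_of_pos_of_lt hk0 hkp)).symm
  have hs := Equiv.Perm.support_pow_coprime hco
  unfold fixN
  congr 1
  ext a
  simp only [Finset.mem_filter, Finset.mem_univ, true_and]
  have h1 : a ∈ (σ ^ k).support ↔ a ∈ σ.support := by rw [hs]
  rw [Equiv.Perm.mem_support, Equiv.Perm.mem_support] at h1
  exact not_iff_not.mp h1

theorem fixN_one : fixN (1 : Equiv.Perm α) = Fintype.card α := by
  unfold fixN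
  simp

/-- the dimension of the space of invariant functions of a permutation of prime order. -/
theorem card_ker_prime (σ : Equiv.Perm α) (p : ℕ) (hp : p.Prime) (hσ : orderOf σ = p) :
    p * finrank ℚ (LinearMap.ker (dOp σ)) = Fintype.card α + (p - 1) * fixN σ := by
  have hp0 : (p : ℚ) ≠ 0 := by exact_mod_cast hp.ne_zero
  have hpow : σ ^ p = 1 := by rw [← hσ]; exact pow_orderOf_eq_one σ
  set N : Module.End ℚ (α → ℚ) := ∑ k ∈ Finset.range p, (tOp σ) ^ k with hN
  have hNapp : ∀ (v : α → ℚ) (a : α), N v a = ∑ k ∈ Finset.range p, v ((σ ^ k) a) := by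
    intro v a
    rw [hN, LinearMap.sum_apply, Finset.sum_apply]
    apply Finset.sum_congr rfl
    intro k _
    rw [tOp_pow, tOp_apply]
  have hproj : LinearMap.IsProj (LinearMap.ker (dOp σ)) ((p : ℚ)⁻¹ • N) := by
    constructor
    · intro v
      rw [mem_ker_dOp]
      intro a
      rw [LinearMap.smul_apply, Pi.smul_apply, Pi.smul_apply, hNapp, hNapp]
      congr 1
      have e1 : ∀ k, v ((σ ^ k) (σ a)) = v ((σ ^ (k + 1)) a) := by
        intro k
        rw [pow_succ, Equiv.Perm.mul_apply]
      simp only [e1]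
      have h1 := Finset.sum_range_succ (fun k => v ((σ ^ k) a)) p
      have h2 := Finset.sum_range_succ' (fun k => v ((σ ^ k) a)) p
      simp only [hpow, pow_zero, Equiv.Perm.one_apply] at h1 h2
      linarith
    · intro v hv
      rw [mem_ker_dOp] at hv
      have hk : ∀ (k : ℕ) (a : α), v ((σ ^ k) a) = v a := by
        intro k
        induction k with
        | zero => intro a; simp
        | succ k ih =>
          intro a
          rw [pow_succ, Equiv.Perm.mul_apply, ih, hv]
      funext a
      rw [LinearMap.smul_apply, Pi.smul_apply, hNapp]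
      simp only [hk, Finset.sum_const, Finset.card_range, smul_eq_mul, nsmul_eq_mul]
      field_simp
  have htr := hproj.trace
  rw [map_smul, hN, map_sum] at htr
  have hsum : ∑ k ∈ Finset.range p, LinearMap.trace ℚ (α → ℚ) ((tOp σ) ^ k) =
      (Fintype.card α : ℚ) + ((p : ℚ) - 1) * fixN σ := by
    obtain ⟨m, rfl⟩ : ∃ m, p = m + 1 := ⟨p - 1, (Nat.succ_pred_eq_of_pos hp.pos).symm⟩
    rw [Finset.sum_range_succ']
    have e0 : LinearMap.trace ℚ (α → ℚ) ((tOp σ) ^ 0) = Fintype.card α := by
      rw [tOp_pow, trace_tOp, pow_zero, fixN_one]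
    rw [e0]
    have e1 : ∀ k ∈ Finset.range m, LinearMap.trace ℚ (α → ℚ) ((tOp σ) ^ (k + 1)) = fixN σ := by
      intro k hk
      rw [tOp_pow, trace_tOp, fixN_pow σ (m + 1) hp hσ (k + 1) (Nat.succ_pos k)
        (by rw [Finset.mem_range] at hk; omega)]
    rw [Finset.sum_congr rfl e1, Finset.sum_const, Finset.card_range]
    push_cast
    ring
  rw [hsum, smul_eq_mul] at htr
  have hq : (p : ℚ) * finrank ℚ (LinearMap.ker (dOp σ)) =
      (Fintype.card α : ℚ) + ((p : ℚ) - 1) * fixN σ := by
    rw [← htr]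
    field_simp
  have h1 : 1 ≤ p := hp.pos
  exact_mod_cast hq

end Cfsg.Agent.Helper9.Ree
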