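import Mathlib
import Cfsg.Prelude
import Cfsg.Agent.Helper9.Ree.Scott
import Cfsg.Agent.Helper9.Out.M23Out
import Cfsg.Agent.Helper9.Golay.Syl2Thm

set_option autoImplicit false

/-!
Triples of prime orders which do not generate the Mathieu group on 23 points: the numbers of
cycles are too large for a transitive group (Ree's inequality).
-/

namespace Cfsg.Agent.Helper9.Ree

open Cfsg Module Cfsg.Agent.Helper9.Golay Cfsg.Agent.Helper9.OutM23 Cfsg.Agent.Helper9.OutM24

/-- an involution of the large Mathieu group with a fixed point has eight fixed points. -/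
theorem fixN_two {g : Equiv.Perm GolayPt} (hg : g ∈ M24) (h2 : orderOf g = 2)
    (hn : g none = none) : fixN g = 8 := by
  rcases involutions_main.1 g hg h2 with h | h
  · have := h.2
    unfold fixN
    convert this
  · exact absurd hn (h none)

/-- an element of order three of the large Mathieu group with a fixed point has six of them. -/
theorem fixN_three {g : Equiv.Perm GolayPt} (hg : g ∈ M24) (h3 : orderOf g = 3)
    (hn : g none = none) : fixN g = 6 := by
  set u : ↥M24 := ⟨g, hg⟩ with hu
  have hcard : Nat.card (Subgroup.zpowers u) = 3 := by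
    rw [Nat.card_zpowers, hu, Subgroup.orderOf_mk]
    exact h3
  have hfix : (fixSet (Subgroup.zpowers u)).ncard = fixN g := by
    rw [fixSet_zpowers]
    unfold fixN
    rw [← Set.ncard_coe_finset]
    congr 1
    ext p
    simp [hu]
  rcases order_three_main.1 _ hcard with h | h
  · rw [← hfix, h]
  · exfalso
    have hmem : none ∈ fixSet (Subgroup.zpowers u) := by
      rw [fixSet_zpowers]
      exact hn
    have hfin : (fixSet (Subgroup.zpowers u)).Finite := Set.toFinite _
    rw [Set.ncard_eq_zero hfin] at h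
    rw [h] at hmem
    exact hmem

/-- the functions invariant under two generators of the Mathieu group on 23 points form a space
of dimension at most two. -/
theorem finrank_inv_le (x y z : ↥Spor.M23) (hcl : Subgroup.closure {x, y} = ⊤) :
    finrank ℚ ↥(LinearMap.ker (dOp (x : Equiv.Perm GolayPt)) ⊓
      LinearMap.ker (dOp (y : Equiv.Perm GolayPt)) ⊓
      LinearMap.ker (dOp (z : Equiv.Perm GolayPt))) ≤ 2 := by
  set I := LinearMap.ker (dOp (x : Equiv.Perm GolayPt)) ⊓
      LinearMap.ker (dOp (y : Equiv.Perm GolayPt)) ⊓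
      LinearMap.ker (dOp (z : Equiv.Perm GolayPt)) with hI
  let f : ↥I →ₗ[ℚ] ℚ × ℚ :=
    ((LinearMap.proj (none : GolayPt)).prod (LinearMap.proj (some 0 : GolayPt))).comp I.subtype
  have hf : ∀ v : ↥I, f v = ((v : GolayPt → ℚ) none, (v : GolayPt → ℚ) (some 0)) := fun v => rfl
  have hinj : Function.Injective f := by
    rw [← LinearMap.ker_eq_bot, LinearMap.ker_eq_bot']
    intro v hv
    rw [hf, Prod.mk_eq_zero] at hv
    obtain ⟨w, hw⟩ := v
    have hwx : ∀ a, w ((x : Equiv.Perm GolayPt) a) = w a := (mem_ker_dOp _ _).mp hw.1.1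
    have hwy : ∀ a, w ((y : Equiv.Perm GolayPt) a) = w a := (mem_ker_dOp _ _).mp hw.1.2
    -- the subgroup of the elements leaving `w` invariant
    let S : Subgroup ↥Spor.M23 :=
      { carrier := {g | ∀ a, w ((g : Equiv.Perm GolayPt) a) = w a}
        one_mem' := fun a => rfl
        mul_mem' := by
          intro g h hg hh a
          rw [Subgroup.coe_mul, Equiv.Perm.mul_apply, hg, hh]
        inv_mem' := by
          intro g hg a
          have := hg ((g : Equiv.Perm GolayPt)⁻¹ a)
          rw [← Equiv.Perm.mul_apply, mul_inv_cancel, Equiv.Perm.one_apply] at this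
          rw [Subgroup.coe_inv]
          exact this.symm }
    have hS : (⊤ : Subgroup ↥Spor.M23) ≤ S := by
      rw [← hcl, Subgroup.closure_le]
      intro g hg
      rcases hg with rfl | rfl
      · exact hwx
      · exact hwy
    have ha : ∀ a, w ((a23 : Equiv.Perm GolayPt) a) = w a := hS (Subgroup.mem_top a23)
    have hstep : ∀ t : ZMod 23, w (some (t + 1)) = w (some t) := fun t => ha (some t)
    have hall : ∀ n : ℕ, w (some ((n : ℕ) : ZMod 23)) = w (some 0) := by
      intro n
      induction n with
      | zero => simp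
      | succ n ih => rw [Nat.cast_succ, hstep, ih]
    apply Subtype.ext
    funext a
    have hv1 : w none = 0 := hv.1
    have hv2 : w (some 0) = 0 := hv.2
    show w a = 0
    cases a with
    | none => exact hv1
    | some t =>
      have := hall t.val
      rw [ZMod.natCast_zmod_val] at this
      rw [this]
      exact hv2
  have h1 := LinearMap.finrank_le_finrank_of_injective hinj
  have h2 : finrank ℚ (ℚ × ℚ) = 2 := by
    rw [Module.finrank_prod, Module.finrank_self]
  omega

theorem card_golayPt : Fintype.card GolayPt = 24 := by decide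

theorem fixN_pos {g : Equiv.Perm GolayPt} (hn : g none = none) : 1 ≤ fixN g := by
  unfold fixN
  apply Finset.card_pos.mpr
  exact ⟨none, by simp [hn]⟩

/-- the triples of prime orders which do not generate the group. -/
theorem neg (p q r : ℕ) (hp : p.Prime) (hq : q.Prime) (hr : r.Prime) (hqr : q ≤ r)
    (x y z : ↥Spor.M23) (hx : orderOf x = p) (hy : orderOf y = q) (hz : orderOf z = r)
    (hxyz : x * y * z = 1) (hcl : Subgroup.closure {x, y} = ⊤) :
    ¬ ((p = 2 ∧ q = 3) ∨ (p = 2 ∧ q = 5 ∧ r = 5) ∨ (p = 2 ∧ q = 5 ∧ r = 7) ∨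
      (p = 3 ∧ q = 3 ∧ r ≤ 7)) := by
  have hX : orderOf (x : Equiv.Perm GolayPt) = p := by rw [Subgroup.orderOf_coe]; exact hx
  have hY : orderOf (y : Equiv.Perm GolayPt) = q := by rw [Subgroup.orderOf_coe]; exact hy
  have hZ : orderOf (z : Equiv.Perm GolayPt) = r := by rw [Subgroup.orderOf_coe]; exact hz
  have hXYZ : (x : Equiv.Perm GolayPt) * (y : Equiv.Perm GolayPt) * (z : Equiv.Perm GolayPt) = 1 := by
    rw [← Subgroup.coe_mul, ← Subgroup.coe_mul, hxyz, Subgroup.coe_one]
  have hxn := (mem_M23_iff.mp x.2).2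
  have hyn := (mem_M23_iff.mp y.2).2
  have hzn := (mem_M23_iff.mp z.2).2
  have hxM := (mem_M23_iff.mp x.2).1
  have hyM := (mem_M23_iff.mp y.2).1
  have S := scott (x : Equiv.Perm GolayPt) (y : Equiv.Perm GolayPt) (z : Equiv.Perm GolayPt) hXYZ
  have I2 := finrank_inv_le x y z hcl
  have ex := card_ker_prime (x : Equiv.Perm GolayPt) p hp hX
  have ey := card_ker_prime (y : Equiv.Perm GolayPt) q hq hY
  have ez := card_ker_prime (z : Equiv.Perm GolayPt) r hr hZ
  have fx := fixN_pos hxn
  have fy := fixN_pos hyn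
  have fz := fixN_pos hzn
  rw [card_golayPt] at S ex ey ez
  generalize finrank ℚ ↥(LinearMap.ker (dOp (x : Equiv.Perm GolayPt)) ⊓
      LinearMap.ker (dOp (y : Equiv.Perm GolayPt)) ⊓
      LinearMap.ker (dOp (z : Equiv.Perm GolayPt))) = i at S I2
  generalize finrank ℚ ↥(LinearMap.ker (dOp (x : Equiv.Perm GolayPt))) = kx at S ex
  generalize finrank ℚ ↥(LinearMap.ker (dOp (y : Equiv.Perm GolayPt))) = ky at S ey
  generalize finrank ℚ ↥(LinearMap.ker (dOp (z : Equiv.Perm GolayPt))) = kz at S ez
  rintro (⟨rfl, rfl⟩ | ⟨rfl, rfl, rfl⟩ | ⟨rfl, rfl, rfl⟩ | ⟨rfl, rfl, hr7⟩)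
  · have e2 := fixN_two hxM hX hxn
    have e3 := fixN_three hyM hY hyn
    rw [e2] at ex
    rw [e3] at ey
    have hkz : 1 ≤ kz := by
      rcases Nat.eq_zero_or_pos kz with h0 | h0
      · rw [h0, mul_zero] at ez
        omega
      · exact h0
    omega
  · have e2 := fixN_two hxM hX hxn
    rw [e2] at ex
    omega
  · have e2 := fixN_two hxM hX hxn
    rw [e2] at ex
    omega
  · have e3 := fixN_three hxM hX hxn
    have e3' := fixN_three hyM hY hyn
    rw [e3] at ex
    rw [e3'] at ey
    interval_cases r
    · omega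
    · norm_num at hr
    · omega
    · norm_num at hr
    · omega

end Cfsg.Agent.Helper9.Ree
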