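import Mathlib
import Cfsg.Prelude
import Cfsg.Agent.Helper9.Out.M23Out

set_option autoImplicit false

/-!
Two elements of the Mathieu group on 23 points, given as words in the two standard generators,
generate it when a chain of stabilizers of the full order can be read off their tables.
-/

namespace Cfsg.Agent.Helper9.Ree

open Cfsg Cfsg.Agent.Helper9.Golay Cfsg.Agent.Helper9.OutL Cfsg.Agent.Helper9.OutM24
  Cfsg.Agent.Helper9.OutM23

/-- the table of a word in the two standard generators. -/
def wT (w : List Bool) : List ℕ := evalT w o24AT o23BT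

theorem isTbl_wT (w : List Bool) :
    IsTbl ((evalW w a23 b23 : ↥Spor.M23) : Equiv.Perm GolayPt) (wT w) := by
  rw [coe_evalW]
  exact isTbl_evalW aP_tbl b23P_tbl w

theorem orderOf_of_tbl {g : ↥Spor.M23} {t : List ℕ} {p : ℕ} (hp : p.Prime)
    (ht : IsTbl (g : Equiv.Perm GolayPt) t) (h1 : powT t p = idT) (h2 : t ≠ idT) :
    orderOf g = p := by
  have : Fact p.Prime := ⟨hp⟩
  apply orderOf_eq_prime
  · apply Subtype.ext
    rw [Subgroup.coe_pow, Subgroup.coe_one]
    apply (ht.pow p).eq_of_eq
    rw [h1]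
    exact isTbl_one
  · intro h
    apply h2
    rw [h] at ht
    exact tbl_eq_idT ht

/-- the witnesses for one triple of primes. -/
theorem gen_witness (p q r : ℕ) (hp : p.Prime) (hq : q.Prime) (hr : r.Prime)
    (wx wy : List Bool) (prog : List (ℕ × ℕ)) (levels : List (ℕ × List (ℕ × ℕ)))
    (h1 : powT (wT wx) p = idT ∧ wT wx ≠ idT)
    (h2 : powT (wT wy) q = idT ∧ wT wy ≠ idT)
    (h3 : powT (mulT (wT wx) (wT wy)) r = idT ∧ mulT (wT wx) (wT wy) ≠ idT)
    (h4 : chainOK (runSLP prog [wT wx, wT wy]) [] levels = true)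
    (h5 : chainBound levels = 10200960) :
    ∃ x y z : ↥Spor.M23, orderOf x = p ∧ orderOf y = q ∧ orderOf z = r ∧ x * y * z = 1 ∧
      Subgroup.closure {x, y} = ⊤ := by
  set x : ↥Spor.M23 := evalW wx a23 b23 with hx
  set y : ↥Spor.M23 := evalW wy a23 b23 with hy
  have hxT : IsTbl (x : Equiv.Perm GolayPt) (wT wx) := isTbl_wT wx
  have hyT : IsTbl (y : Equiv.Perm GolayPt) (wT wy) := isTbl_wT wy
  have hxyT : IsTbl ((x * y : ↥Spor.M23) : Equiv.Perm GolayPt) (mulT (wT wx) (wT wy)) := by
    rw [Subgroup.coe_mul]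
    exact hxT.mul hyT
  refine ⟨x, y, (x * y)⁻¹, orderOf_of_tbl hp hxT h1.1 h1.2, orderOf_of_tbl hq hyT h2.1 h2.2, ?_,
    mul_inv_cancel _, ?_⟩
  · rw [orderOf_inv]
    exact orderOf_of_tbl hr hxyT h3.1 h3.2
  · -- the closure has the full order
    set H := Subgroup.closure ({(x : Equiv.Perm GolayPt), (y : Equiv.Perm GolayPt)} :
      Set (Equiv.Perm GolayPt)) with hH
    have hle : H ≤ Spor.M23 := by
      rw [hH, Subgroup.closure_le]
      intro g hg
      rcases hg with rfl | rfl
      · exact x.2
      · exact y.2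
    have hgood : GoodT H (runSLP prog [wT wx, wT wy]) := by
      apply goodT_runSLP
      intro t ht
      simp only [List.mem_cons, List.not_mem_nil, or_false] at ht
      rcases ht with rfl | rfl
      · exact ⟨x, Subgroup.subset_closure (by simp), hxT⟩
      · exact ⟨y, Subgroup.subset_closure (by simp), hyT⟩
    have hlow := chain_lower hgood levels [] h4
    rw [h5] at hlow
    have hcard : 10200960 ≤ Nat.card H := by simpa [fixL] using hlow
    have hHeq : H = Spor.M23 :=
      Subgroup.eq_of_le_of_card_ge hle (by rw [card_M23]; exact hcard)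
    apply Subgroup.map_injective Spor.M23.subtype_injective
    rw [MonoidHom.map_closure, ← MonoidHom.range_eq_map, Subgroup.range_subtype]
    have : (Spor.M23.subtype '' ({x, y} : Set ↥Spor.M23)) =
        {(x : Equiv.Perm GolayPt), (y : Equiv.Perm GolayPt)} := by
      rw [Set.image_pair]
      rfl
    rw [this]
    exact hHeq

end Cfsg.Agent.Helper9.Ree
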