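import Mathlib
import Cfsg.Prelude
import Cfsg.Agent.Helper9.Ree.M23Pos

set_option autoImplicit false

/-! generated: pairs of elements of prime orders generating the Mathieu group on 23 points,
as words in its two standard generators, with chains of stabilizers of the groups they generate -/

namespace Cfsg.Agent.Helper9.Ree

open Cfsg Cfsg.Agent.Helper9.Golay

def wx_2_5_11 : List Bool := [false]

def wy_2_5_11 : List Bool := [true, true, false, true, true, false]

def pr_2_5_11 : List (ℕ × ℕ) := [(0, 1), (1, 1), (1, 2), (1, 3), (0, 4), (1, 4), (0, 5), (1, 5), (0, 7), (1, 8), (0, 9), (1, 10), (0, 11), (1, 11), (1, 12), (1, 15), (1, 16), (0, 17), (1, 18), (1, 20), (3, 3), (1, 0), (0, 23), (24, 24), (24, 25), (24, 26), (25, 25), (22, 22), (0, 3), (29, 30), (31, 25), (31, 26), (24, 32), (31, 27), (24, 34), (31, 34), (24, 35), (24, 36), (31, 36), (24, 37), (24, 38), (31, 39), (24, 40), (24, 41), (24, 42), (31, 44), (24, 46), (31, 24), (28, 49), (50, 31), (31, 50), (31, 51), (50,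 52), (32, 32), (55, 55), (56, 56), (55, 57), (24, 33), (58, 59), (60, 31), (60, 50), (60, 60), (31, 61), (50, 61), (60, 61), (60, 52), (60, 62), (60, 63), (60, 53), (60, 65), (60, 67), (60, 68), (62, 62), (74, 74), (31, 60), (75, 76), (77, 77), (50, 60), (69, 79), (80, 77), (77, 80), (80, 78), (77, 81), (77, 82), (83, 83), (60, 51), (31, 87), (88, 77), (88, 80), (77, 88), (80, 88), (88, 88), (88, 78), (88, 89), (80, 91), (88, 94), (88, 85), (92, 92), (99, 99), (88, 81), (100, 101), (77, 89), (86, 103), (104, 102), (102, 104), (104, 104), (102, 105), (104, 105), (102, 107), (88, 82), (111, 102), (102, 111), (102, 112), (111, 112), (111, 109), (104, 115), (111, 104), (107, 118), (119, 119)]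

def lv_2_5_11 : List (ℕ × List (ℕ × ℕ)) := [(0, [(0, 100000), (1, 8), (2, 0), (3, 1), (4, 5), (5, 10), (6, 17), (7, 2), (8, 19), (9, 9), (10, 11), (11, 20), (12, 14), (13, 16), (14, 6), (15, 21), (16, 13), (17, 18), (18, 7), (19, 12), (20, 4), (21, 3), (22, 15)]),
  (1, [(1, 100000), (2, 25), (3, 44), (4, 32), (5, 41), (6, 47), (7, 26), (8, 39), (9, 42), (10, 43), (11, 35), (12, 34), (13, 46), (14, 37), (15, 38), (16, 40), (17, 48), (18, 45), (19, 24), (20, 33), (21, 27), (22, 36)]),
  (2, [(2, 100000), (3, 51), (4, 31), (5, 71), (6, 53), (7, 73), (8, 50), (9, 68), (10, 52), (11, 62), (12, 61), (13, 66), (14, 64), (15, 69), (16, 63), (17, 72), (18, 65), (19, 67), (20, 70), (21, 60), (22, 54)]),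
  (3, [(3, 100000), (4, 91), (5, 96), (6, 90), (7, 92), (8, 93), (9, 89), (10, 94), (11, 97), (12, 98), (13, 80), (14, 77), (15, 88), (16, 83), (17, 78), (18, 95), (19, 82), (20, 85), (21, 84), (22, 81)]),
  (4, [(4, 100000), (6, 117), (7, 114), (8, 112), (9, 105), (10, 109), (11, 107), (12, 106), (13, 108), (15, 102), (16, 115), (18, 116), (19, 104), (20, 111), (21, 110), (22, 113)]),
  (7, [(7, 100000), (10, 120), (12, 119)])]

theorem wit_2_5_11 : ∃ x y z : ↥Spor.M23, orderOf x = 2 ∧ orderOf y = 5 ∧ orderOf z = 11 ∧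
    x * y * z = 1 ∧ Subgroup.closure {x, y} = ⊤ :=
  gen_witness 2 5 11 (by norm_num) (by norm_num) (by norm_num) wx_2_5_11 wy_2_5_11 pr_2_5_11 lv_2_5_11
    (by decide +kernel) (by decide +kernel) (by decide +kernel) (by decide +kernel)
    (by decide +kernel)

def wx_2_5_23 : List Bool := [false]

def wy_2_5_23 : List Bool := [true, true, false]

def pr_2_5_23 : List (ℕ × ℕ) := [(0, 1), (1, 1), (1, 2), (0, 3), (1, 3), (0, 4), (1, 4), (1, 5), (0, 6), (1, 6), (0, 8), (1, 8), (0, 9), (1, 9), (1, 10), (1, 13), (1, 15), (1, 16), (1, 19), (1, 20), (1, 0), (0, 22), (23, 23), (23, 24), (23, 25), (7, 7), (27, 27), (27, 28), (28, 28), (30, 30), (29, 31), (11, 11), (33, 33), (1, 7), (32, 35), (36, 23), (36, 36), (36, 24), (23, 37), (23, 38), (36, 25), (23, 39), (23, 40), (38, 38), (23, 36), (45, 46), (47, 47), (47, 48), (47, 49), (40, 40), (40, 51), (51, 51), (52, 53), (36, 37), (54, 55), (56, 47), (47, 56), (56, 56), (56, 48), (47, 57), (47, 58), (56, 49), (58, 58), (58, 64), (56, 57),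 (65, 66), (67, 67), (68, 68), (63, 63), (47, 60), (70, 71), (72, 67), (72, 68), (67, 74), (67, 72), (72, 76), (77, 77), (78, 78), (0, 11), (34, 80), (81, 47), (47, 81), (81, 48), (56, 82), (56, 83), (47, 84), (56, 85), (81, 23), (81, 36), (23, 89), (36, 89), (23, 90), (23, 91), (36, 92), (23, 94), (81, 56), (59, 97), (79, 98), (99, 99), (99, 77), (99, 72), (99, 68), (99, 73), (67, 102), (72, 102), (99, 74), (67, 104), (72, 104), (67, 105), (67, 106), (99, 75), (67, 108), (67, 109), (99, 67), (69, 115), (116, 77), (77, 116), (99, 116), (116, 78), (116, 101), (116, 117), (77, 118), (99, 118), (77, 119), (99, 119), (99, 120)]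

def lv_2_5_23 : List (ℕ × List (ℕ × ℕ)) := [(0, [(0, 100000), (1, 2), (2, 0), (3, 3), (4, 1), (5, 9), (6, 4), (7, 5), (8, 7), (9, 6), (10, 8), (11, 16), (12, 12), (13, 19), (14, 13), (15, 20), (16, 18), (17, 21), (18, 14), (19, 10), (20, 15), (21, 11), (22, 17)]),
  (1, [(1, 100000), (2, 26), (3, 90), (4, 94), (5, 41), (6, 36), (7, 23), (8, 96), (9, 44), (10, 95), (11, 39), (12, 92), (13, 43), (14, 42), (15, 37), (16, 38), (17, 40), (18, 93), (19, 24), (20, 89), (21, 25), (22, 91)]),
  (2, [(2, 100000), (3, 48), (4, 81), (5, 50), (6, 84), (7, 62), (8, 85), (9, 61), (10, 83), (11, 58), (12, 82), (13, 63), (14, 47), (15, 57), (16, 87), (17, 49), (18, 60), (19, 56), (20, 86), (21, 59), (22, 88)]),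
  (3, [(3, 100000), (4, 113), (5, 67), (6, 72), (7, 75), (8, 104), (9, 105), (10, 109), (11, 107), (12, 112), (13, 110), (14, 103), (15, 106), (16, 111), (17, 68), (18, 102), (19, 74), (20, 108), (21, 73), (22, 114)]),
  (4, [(4, 100000), (6, 124), (7, 101), (8, 127), (9, 125), (10, 77), (11, 123), (12, 78), (13, 116), (15, 118), (16, 119), (18, 117), (19, 122), (20, 121), (21, 120), (22, 126)]),
  (7, [(7, 100000), (10, 100), (12, 99)])]

theorem wit_2_5_23 : ∃ x y z : ↥Spor.M23, orderOf x = 2 ∧ orderOf y = 5 ∧ orderOf z = 23 ∧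
    x * y * z = 1 ∧ Subgroup.closure {x, y} = ⊤ :=
  gen_witness 2 5 23 (by norm_num) (by norm_num) (by norm_num) wx_2_5_23 wy_2_5_23 pr_2_5_23 lv_2_5_23
    (by decide +kernel) (by decide +kernel) (by decide +kernel) (by decide +kernel)
    (by decide +kernel)

def wx_2_7_7 : List Bool := [false]

def wy_2_7_7 : List Bool := [true, true, true, true, true, false, true, true, true, true, true]

def pr_2_7_7 : List (ℕ × ℕ) := [(1, 0), (0, 2), (1, 2), (1, 3), (0, 4), (1, 4), (1, 5), (1, 6), (1, 7), (1, 8), (1, 9), (1, 10), (1, 11), (0, 12), (0, 13), (1, 14), (1, 15), (0, 17), (1, 17), (1, 19), (0, 21), (1, 1), (1, 23), (1, 24), (1, 25), (1, 26), (23, 23), (23, 28), (5, 5), (30, 30), (30, 31), (0, 5), (32, 33), (1, 34), (34, 23), (1, 35), (34, 24), (1, 36), (1, 37), (1, 38), (34, 39), (1, 40), (1, 41), (34, 43), (34, 27), (1, 46), (1, 47), (34, 1), (29, 49), (35, 35), (51, 51), (34, 35), (52, 53), (54, 50), (40, 40), (56, 56), (40, 57), (34, 37), (58, 59), (60, 50), (60, 54), (50,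 60), (54, 60), (60, 60), (60, 55), (54, 61), (60, 61), (60, 62), (60, 65), (60, 67), (60, 68), (60, 69), (60, 70), (50, 71), (60, 73), (65, 65), (62, 62), (78, 78), (78, 79), (77, 77), (50, 61), (80, 82), (83, 83), (54, 62), (81, 85), (86, 83), (83, 86), (86, 84), (83, 87), (86, 87), (83, 88), (86, 88), (86, 89), (83, 90), (83, 91), (86, 92), (83, 93), (86, 93), (86, 95), (86, 96), (86, 97), (86, 86), (88, 88), (104, 104), (105, 103), (106, 106), (91, 91), (91, 108), (92, 92), (83, 89), (109, 111), (112, 106), (106, 112), (112, 112), (112, 107), (106, 113), (112, 113), (106, 116), (112, 116), (115, 115), (86, 90), (110, 122), (121, 123), (124, 124), (124, 107), (124, 113), (124, 114), (124, 115)]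

def lv_2_7_7 : List (ℕ × List (ℕ × ℕ)) := [(0, [(0, 100000), (1, 15), (2, 0), (3, 8), (4, 12), (5, 6), (6, 3), (7, 7), (8, 2), (9, 16), (10, 19), (11, 11), (12, 17), (13, 18), (14, 22), (15, 10), (16, 5), (17, 9), (18, 4), (19, 13), (20, 21), (21, 14), (22, 20)]),
  (1, [(1, 100000), (2, 36), (3, 45), (4, 27), (5, 25), (6, 41), (7, 35), (8, 39), (9, 43), (10, 23), (11, 46), (12, 48), (13, 1), (14, 42), (15, 37), (16, 44), (17, 26), (18, 34), (19, 40), (20, 24), (21, 47), (22, 38)]),
  (2, [(2, 100000), (3, 64), (4, 65), (5, 68), (6, 72), (7, 75), (8, 67), (9, 63), (10, 61), (11, 55), (12, 62), (13, 60), (14, 50), (15, 71), (16, 70), (17, 66), (18, 69), (19, 73), (20, 76), (21, 54), (22, 74)]),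
  (3, [(3, 100000), (4, 94), (5, 102), (6, 93), (7, 92), (8, 101), (9, 87), (10, 98), (11, 100), (12, 99), (13, 90), (14, 83), (15, 89), (16, 88), (17, 84), (18, 97), (19, 96), (20, 86), (21, 95), (22, 91)]),
  (4, [(4, 100000), (6, 119), (7, 120), (8, 107), (9, 126), (10, 128), (11, 115), (12, 114), (13, 118), (15, 127), (16, 117), (18, 113), (19, 112), (20, 129), (21, 106), (22, 116)]),
  (7, [(7, 100000), (10, 125), (12, 124)])]

theorem wit_2_7_7 : ∃ x y z : ↥Spor.M23, orderOf x = 2 ∧ orderOf y = 7 ∧ orderOf z = 7 ∧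
    x * y * z = 1 ∧ Subgroup.closure {x, y} = ⊤ :=
  gen_witness 2 7 7 (by norm_num) (by norm_num) (by norm_num) wx_2_7_7 wy_2_7_7 pr_2_7_7 lv_2_7_7
    (by decide +kernel) (by decide +kernel) (by decide +kernel) (by decide +kernel)
    (by decide +kernel)

def wx_2_7_11 : List Bool := [false]

def wy_2_7_11 : List Bool := [true, true, true, true, true, false, true, false]

def pr_2_7_11 : List (ℕ × ℕ) := [(1, 0), (0, 1), (1, 1), (0, 2), (1, 3), (1, 4), (1, 5), (0, 6), (1, 6), (1, 7), (1, 9), (0, 11), (1, 11), (0, 12), (1, 13), (0, 14), (1, 14), (1, 16), (0, 18), (1, 19), (4, 4), (22, 22), (22, 23), (5, 5), (25, 25), (25, 26), (1, 2), (27, 28), (29, 29), (29, 30), (29, 31), (30, 30), (33, 33), (30, 34), (0, 4), (24, 36), (29, 37), (37, 30), (29, 38), (37, 31), (29, 39), (29, 40), (37, 40), (29, 42), (29, 43), (29, 45), (37, 45), (29, 46), (37, 46), (29, 49), (37, 49), (29, 51), (37, 51), (37, 29), (35, 55), (38, 38), (38, 57), (57, 57), (58, 59), (39, 39), (61, 61), (37, 38),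 (60, 63), (62, 32), (65, 64), (65, 65), (67, 67), (66, 66), (69, 69), (56, 65), (68, 71), (72, 56), (64, 65), (70, 74), (75, 56), (75, 72), (56, 75), (75, 75), (75, 76), (75, 77), (77, 77), (81, 81), (68, 68), (65, 66), (79, 85), (86, 56), (86, 75), (86, 76), (56, 87), (56, 89), (86, 72), (82, 92), (93, 86), (86, 93), (93, 93), (86, 94), (93, 94), (93, 95), (86, 96), (44, 44), (101, 101), (102, 102), (101, 103), (29, 41), (104, 105), (106, 64), (65, 106), (106, 106), (106, 66), (106, 67), (65, 110), (106, 110), (65, 111), (106, 111), (64, 112), (65, 112), (106, 112), (64, 113), (65, 113), (106, 113), (106, 65), (84, 122), (83, 123), (86, 124), (125, 125), (125, 86), (125, 93), (125, 94), (86, 127), (125, 95), (86, 128), (125, 73), (125, 76), (125, 79), (86, 133)]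

def lv_2_7_11 : List (ℕ × List (ℕ × ℕ)) := [(0, [(0, 100000), (1, 18), (2, 0), (3, 13), (4, 20), (5, 9), (6, 14), (7, 11), (8, 17), (9, 2), (10, 3), (11, 16), (12, 1), (13, 10), (14, 12), (15, 19), (16, 4), (17, 8), (18, 6), (19, 5), (20, 15), (21, 21), (22, 7)]),
  (1, [(1, 100000), (2, 40), (3, 42), (4, 52), (5, 50), (6, 39), (7, 51), (8, 41), (9, 38), (10, 43), (11, 53), (12, 47), (13, 44), (14, 29), (15, 54), (16, 46), (17, 48), (18, 30), (19, 37), (20, 49), (21, 45), (22, 31)]),
  (2, [(2, 100000), (3, 119), (4, 121), (5, 108), (6, 66), (7, 65), (8, 115), (9, 112), (10, 118), (11, 114), (12, 117), (13, 110), (14, 120), (15, 107), (16, 109), (17, 111), (18, 106), (19, 67), (20, 113), (21, 64), (22, 116)]),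
  (3, [(3, 100000), (4, 56), (5, 90), (6, 136), (7, 135), (8, 73), (9, 72), (10, 81), (11, 76), (12, 79), (13, 88), (14, 78), (15, 91), (16, 87), (17, 80), (18, 89), (19, 134), (20, 77), (21, 133), (22, 75)]),
  (4, [(4, 100000), (6, 131), (7, 132), (8, 94), (9, 100), (10, 99), (11, 93), (12, 97), (13, 127), (15, 98), (16, 86), (18, 95), (19, 128), (20, 96), (21, 129), (22, 130)]),
  (7, [(7, 100000), (10, 125), (12, 126)])]

theorem wit_2_7_11 : ∃ x y z : ↥Spor.M23, orderOf x = 2 ∧ orderOf y = 7 ∧ orderOf z = 11 ∧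
    x * y * z = 1 ∧ Subgroup.closure {x, y} = ⊤ :=
  gen_witness 2 7 11 (by norm_num) (by norm_num) (by norm_num) wx_2_7_11 wy_2_7_11 pr_2_7_11 lv_2_7_11
    (by decide +kernel) (by decide +kernel) (by decide +kernel) (by decide +kernel)
    (by decide +kernel)

def wx_2_7_23 : List Bool := [false]

def wy_2_7_23 : List Bool := [true, false, true, true, true, true, false, true, true, false]

def pr_2_7_23 : List (ℕ × ℕ) := [(0, 1), (1, 1), (1, 2), (1, 3), (0, 4), (1, 4), (0, 5), (1, 5), (1, 6), (1, 7), (1, 8), (1, 9), (0, 10), (1, 10), (0, 11), (0, 12), (1, 12), (1, 13), (1, 17), (0, 19), (3, 3), (1, 0), (0, 23), (24, 24), (24, 25), (22, 22), (22, 27), (0, 3), (28, 29), (30, 24), (24, 30), (30, 25), (24, 31), (24, 32), (30, 32), (30, 26), (24, 33), (24, 35), (32, 32), (40, 40), (40, 41), (34, 34), (43, 43), (37, 37), (45, 45), (45, 46), (24, 34), (47, 48), (49, 49), (30, 34), (44, 51), (50, 52), (39, 39), (54, 54), (54, 55), (30, 35), (56, 57), (49, 58), (58, 58), (49, 59), (49,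 60), (60, 60), (59, 59), (59, 64), (63, 63), (63, 66), (53, 60), (67, 68), (49, 69), (69, 49), (50, 71), (72, 53), (7, 7), (74, 74), (74, 75), (0, 7), (76, 77), (42, 78), (65, 79), (80, 49), (80, 69), (49, 80), (53, 80), (80, 50), (80, 70), (53, 82), (69, 82), (53, 83), (80, 83), (69, 84), (69, 86), (80, 88), (53, 92), (80, 58), (80, 59), (80, 60), (80, 61), (49, 96), (58, 96), (53, 97), (58, 97), (49, 98), (53, 98), (58, 98), (49, 99), (58, 99), (58, 100), (58, 101), (80, 24), (80, 30), (80, 25), (24, 111), (30, 111), (30, 113), (24, 115), (24, 116), (83, 83), (69, 80), (118, 119), (120, 53), (53, 120), (72, 120), (120, 120), (120, 73), (53, 121), (120, 121), (120, 123), (53, 124), (53, 125), (53, 128), (120, 72), (73, 132), (133, 133)]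

def lv_2_7_23 : List (ℕ × List (ℕ × ℕ)) := [(0, [(0, 100000), (1, 4), (2, 0), (3, 21), (4, 6), (5, 16), (6, 17), (7, 19), (8, 12), (9, 2), (10, 14), (11, 7), (12, 10), (13, 18), (14, 8), (15, 9), (16, 3), (17, 20), (18, 11), (19, 1), (20, 5), (21, 15), (22, 13)]),
  (1, [(1, 100000), (2, 115), (3, 114), (4, 110), (5, 38), (6, 37), (7, 36), (8, 39), (9, 116), (10, 24), (11, 33), (12, 32), (13, 30), (14, 112), (15, 111), (16, 117), (17, 31), (18, 35), (19, 26), (20, 34), (21, 25), (22, 113)]),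
  (2, [(2, 100000), (3, 61), (4, 107), (5, 106), (6, 103), (7, 98), (8, 109), (9, 95), (10, 102), (11, 100), (12, 104), (13, 96), (14, 60), (15, 59), (16, 58), (17, 108), (18, 101), (19, 105), (20, 99), (21, 97), (22, 62)]),
  (3, [(3, 100000), (4, 94), (5, 90), (6, 83), (7, 80), (8, 91), (9, 81), (10, 92), (11, 89), (12, 84), (13, 85), (14, 69), (15, 50), (16, 49), (17, 93), (18, 87), (19, 88), (20, 86), (21, 82), (22, 70)]),
  (4, [(4, 100000), (6, 124), (7, 128), (8, 126), (9, 123), (10, 53), (11, 129), (12, 131), (13, 72), (15, 120), (16, 122), (18, 130), (19, 121), (20, 73), (21, 125), (22, 127)]),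
  (7, [(7, 100000), (10, 133), (12, 134)])]

theorem wit_2_7_23 : ∃ x y z : ↥Spor.M23, orderOf x = 2 ∧ orderOf y = 7 ∧ orderOf z = 23 ∧
    x * y * z = 1 ∧ Subgroup.closure {x, y} = ⊤ :=
  gen_witness 2 7 23 (by norm_num) (by norm_num) (by norm_num) wx_2_7_23 wy_2_7_23 pr_2_7_23 lv_2_7_23
    (by decide +kernel) (by decide +kernel) (by decide +kernel) (by decide +kernel)
    (by decide +kernel)

def wx_2_11_11 : List Bool := [false]

def wy_2_11_11 : List Bool := [true, true, true, true, false, true, true]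

def pr_2_11_11 : List (ℕ × ℕ) := [(1, 0), (0, 1), (1, 1), (0, 2), (1, 2), (1, 3), (0, 4), (0, 6), (1, 7), (1, 8), (1, 9), (1, 10), (0, 11), (1, 12), (1, 13), (0, 15), (1, 15), (0, 16), (1, 19), (1, 20), (3, 3), (22, 22), (23, 23), (22, 24), (5, 5), (26, 26), (27, 27), (26, 28), (1, 4), (25, 30), (31, 31), (31, 32), (31, 33), (33, 33), (35, 35), (36, 36), (35, 37), (1, 5), (29, 39), (40, 31), (31, 40), (40, 40), (31, 41), (40, 41), (31, 42), (31, 43), (40, 43), (40, 33), (31, 44), (40, 44), (31, 45), (40, 45), (40, 46), (31, 48), (40, 49), (42, 42), (42, 57), (57, 57), (58, 59), (40, 32), (60, 61), (62, 62), (62, 63), (63, 63), (65, 65), (40, 42), (38, 67), (68, 62), (62, 68), (68, 68), (68, 69), (62, 70), (68, 71), (68, 72), (62, 73), (62, 74), (68, 74), (62, 75), (62, 77), (68, 77), (62, 78), (68, 79), (62, 81), (68, 83), (71, 71), (69, 69), (87, 87), (86, 86), (88, 64), (90, 90), (90, 91), (90, 92), (91, 91), (92, 92), (95, 95), (68, 63), (66, 97), (96, 98), (99, 99), (99,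 90), (94, 101), (102, 99), (99, 102), (102, 102), (102, 100), (102, 103), (99, 104), (99, 105), (62, 69), (89, 110), (111, 90), (90, 111), (99, 111), (111, 91), (99, 112), (111, 112), (90, 113), (99, 113), (111, 113), (99, 114), (111, 115), (99, 116), (99, 118), (111, 119), (111, 111), (99, 126), (126, 103), (126, 104), (126, 127), (126, 99), (105, 131), (132, 132)]

def lv_2_11_11 : List (ℕ × List (ℕ × ℕ)) := [(0, [(0, 100000), (1, 3), (2, 0), (3, 9), (4, 1), (5, 2), (6, 17), (7, 6), (8, 15), (9, 19), (10, 8), (11, 7), (12, 4), (13, 13), (14, 11), (15, 20), (16, 18), (17, 10), (18, 5), (19, 16), (20, 14), (21, 21), (22, 12)]),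
  (1, [(1, 100000), (2, 55), (3, 45), (4, 50), (5, 53), (6, 33), (7, 32), (8, 52), (9, 54), (10, 34), (11, 47), (12, 43), (13, 49), (14, 46), (15, 44), (16, 41), (17, 31), (18, 48), (19, 56), (20, 40), (21, 42), (22, 51)]),
  (2, [(2, 100000), (3, 62), (4, 83), (5, 77), (6, 79), (7, 81), (8, 71), (9, 69), (10, 75), (11, 78), (12, 74), (13, 76), (14, 82), (15, 73), (16, 84), (17, 70), (18, 68), (19, 72), (20, 85), (21, 63), (22, 80)]),
  (3, [(3, 100000), (4, 122), (5, 121), (6, 119), (7, 117), (8, 93), (9, 123), (10, 124), (11, 120), (12, 112), (13, 116), (14, 114), (15, 92), (16, 91), (17, 111), (18, 125), (19, 90), (20, 115), (21, 113), (22, 118)]),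
  (4, [(4, 100000), (6, 109), (7, 103), (8, 129), (9, 102), (10, 130), (11, 100), (12, 104), (13, 108), (15, 127), (16, 126), (18, 106), (19, 128), (20, 99), (21, 105), (22, 107)]),
  (7, [(7, 100000), (10, 132), (12, 133)])]

theorem wit_2_11_11 : ∃ x y z : ↥Spor.M23, orderOf x = 2 ∧ orderOf y = 11 ∧ orderOf z = 11 ∧
    x * y * z = 1 ∧ Subgroup.closure {x, y} = ⊤ :=
  gen_witness 2 11 11 (by norm_num) (by norm_num) (by norm_num) wx_2_11_11 wy_2_11_11 pr_2_11_11 lv_2_11_11
    (by decide +kernel) (by decide +kernel) (by decide +kernel) (by decide +kernel)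
    (by decide +kernel)

def wx_2_11_23 : List Bool := [false]

def wy_2_11_23 : List Bool := [true, true, true, true, false]

def pr_2_11_23 : List (ℕ × ℕ) := [(1, 0), (0, 1), (1, 1), (0, 2), (1, 2), (1, 3), (1, 4), (0, 6), (1, 6), (1, 7), (0, 8), (1, 9), (1, 10), (0, 13), (0, 14), (1, 14), (1, 15), (1, 17), (1, 18), (1, 20), (3, 3), (22, 22), (22, 23), (23, 23), (25, 25), (24, 26), (5, 5), (28, 28), (29, 29), (28, 30), (7, 7), (32, 32), (7, 33), (33, 33), (34, 35), (0, 4), (36, 37), (38, 38), (1, 5), (27, 40), (38, 41), (41, 41), (38, 42), (41, 42), (38, 43), (41, 44), (41, 45), (41, 46), (41, 49), (38, 50), (49, 49), (38, 47), (52, 53), (54, 38), (38, 54), (54, 54), (54, 39), (38, 55), (54, 55), (54, 56), (38, 57), (54, 60), (57, 57), (58, 58), (65, 65), (59, 59), (67, 67), (38, 56), (66, 69), (70, 70), (54, 57), (68, 72), (70, 73), (70, 74), (63, 63), (63, 76), (38, 62), (77, 78), (79, 73), (70, 79), (73, 79), (79, 74), (70, 80), (73, 80), (70, 81), (79, 82), (79, 75), (70,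 83), (70, 84), (51, 51), (91, 91), (91, 92), (1, 8), (31, 94), (93, 95), (96, 54), (96, 96), (96, 55), (96, 56), (96, 57), (38, 97), (96, 97), (38, 98), (96, 58), (96, 41), (96, 42), (96, 43), (96, 106), (96, 44), (96, 45), (41, 107), (41, 108), (96, 108), (96, 110), (96, 111), (38, 112), (41, 112), (96, 112), (96, 38), (64, 120), (70, 121), (73, 121), (121, 121), (70, 122), (73, 122), (121, 122), (70, 123), (73, 123), (79, 123), (121, 123), (73, 124), (79, 124), (79, 125), (73, 126), (70, 127), (73, 127), (70, 130), (79, 132)]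

def lv_2_11_23 : List (ℕ × List (ℕ × ℕ)) := [(0, [(0, 100000), (1, 5), (2, 0), (3, 14), (4, 2), (5, 6), (6, 1), (7, 16), (8, 3), (9, 13), (10, 7), (11, 17), (12, 4), (13, 18), (14, 8), (15, 19), (16, 11), (17, 20), (18, 9), (19, 15), (20, 12), (21, 21), (22, 10)]),
  (1, [(1, 100000), (2, 112), (3, 119), (4, 115), (5, 108), (6, 118), (7, 45), (8, 114), (9, 47), (10, 116), (11, 48), (12, 117), (13, 110), (14, 111), (15, 41), (16, 107), (17, 44), (18, 42), (19, 113), (20, 109), (21, 43), (22, 106)]),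
  (2, [(2, 100000), (3, 96), (4, 55), (5, 101), (6, 98), (7, 61), (8, 60), (9, 39), (10, 104), (11, 103), (12, 38), (13, 100), (14, 102), (15, 58), (16, 97), (17, 56), (18, 54), (19, 99), (20, 59), (21, 57), (22, 105)]),
  (3, [(3, 100000), (4, 134), (5, 136), (6, 139), (7, 129), (8, 133), (9, 128), (10, 132), (11, 125), (12, 126), (13, 124), (14, 137), (15, 130), (16, 135), (17, 127), (18, 138), (19, 121), (20, 122), (21, 123), (22, 131)]),
  (4, [(4, 100000), (6, 75), (7, 85), (8, 90), (9, 84), (10, 88), (11, 79), (12, 87), (13, 89), (15, 73), (16, 83), (18, 74), (19, 81), (20, 86), (21, 80), (22, 82)]),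
  (7, [(7, 100000), (10, 70), (12, 71)])]

theorem wit_2_11_23 : ∃ x y z : ↥Spor.M23, orderOf x = 2 ∧ orderOf y = 11 ∧ orderOf z = 23 ∧
    x * y * z = 1 ∧ Subgroup.closure {x, y} = ⊤ :=
  gen_witness 2 11 23 (by norm_num) (by norm_num) (by norm_num) wx_2_11_23 wy_2_11_23 pr_2_11_23 lv_2_11_23
    (by decide +kernel) (by decide +kernel) (by decide +kernel) (by decide +kernel)
    (by decide +kernel)

def wx_2_23_23 : List Bool := [false]

def wy_2_23_23 : List Bool := [true, true, true, true, false, true, true, false, true, true]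

def pr_2_23_23 : List (ℕ × ℕ) := [(1, 0), (0, 1), (1, 1), (1, 2), (1, 4), (0, 5), (1, 5), (0, 6), (1, 7), (0, 8), (1, 8), (1, 9), (1, 10), (0, 12), (1, 12), (0, 13), (1, 13), (1, 14), (1, 17), (1, 19), (2, 2), (22, 22), (22, 23), (23, 23), (25, 25), (24, 26), (0, 2), (27, 28), (1, 3), (29, 30), (30, 30), (30, 31), (30, 32), (29, 33), (30, 33), (30, 34), (30, 35), (29, 36), (29, 37), (30, 38), (30, 39), (30, 40), (30, 41), (30, 42), (30, 43), (30, 44), (30, 45), (29, 47), (29, 48), (32, 32), (32, 51), (29, 32), (52, 53), (54, 29), (29, 55), (34, 34), (34, 57), (57, 57), (58, 59), (29, 34), (60, 61), (62, 29), (29, 62), (54, 62), (62, 55), (29, 63), (54, 64), (62, 64), (62, 56), (54, 66), (54, 67), (29, 68), (62, 68), (54, 69), (54, 70), (29, 72), (54, 73), (63, 63), (63, 79), (54, 63), (80, 81), (82, 54), (54, 83), (82, 84), (29, 65), (69, 86), (87, 54), (54, 87), (82, 87), (87, 87), (54, 88), (82, 88), (87, 88), (82, 89), (87, 89), (54, 90), (54, 91), (82, 91), (54, 93), (87,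 85), (90, 90), (102, 102), (87, 83), (84, 104), (105, 82), (82, 105), (105, 105), (82, 106), (105, 106), (105, 107), (82, 108), (112, 112), (87, 90), (103, 114), (113, 115), (116, 116), (116, 82), (116, 106), (82, 118), (116, 108), (116, 110), (116, 119), (116, 111)]

def lv_2_23_23 : List (ℕ × List (ℕ × ℕ)) := [(0, [(0, 100000), (1, 3), (2, 0), (3, 9), (4, 1), (5, 17), (6, 8), (7, 6), (8, 11), (9, 7), (10, 12), (11, 2), (12, 15), (13, 19), (14, 16), (15, 14), (16, 4), (17, 10), (18, 13), (19, 5), (20, 18), (21, 21), (22, 20)]),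
  (1, [(1, 100000), (2, 43), (3, 48), (4, 50), (5, 37), (6, 45), (7, 49), (8, 36), (9, 41), (10, 33), (11, 30), (12, 40), (13, 34), (14, 42), (15, 44), (16, 35), (17, 32), (18, 38), (19, 46), (20, 31), (21, 47), (22, 39)]),
  (2, [(2, 100000), (3, 73), (4, 68), (5, 72), (6, 29), (7, 65), (8, 63), (9, 62), (10, 75), (11, 56), (12, 77), (13, 76), (14, 64), (15, 66), (16, 78), (17, 70), (18, 74), (19, 71), (20, 55), (21, 69), (22, 67)]),
  (3, [(3, 100000), (4, 88), (5, 97), (6, 100), (7, 84), (8, 101), (9, 83), (10, 98), (11, 95), (12, 99), (13, 94), (14, 92), (15, 87), (16, 54), (17, 96), (18, 85), (19, 89), (20, 93), (21, 91), (22, 90)]),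
  (4, [(4, 100000), (6, 123), (7, 108), (8, 122), (9, 110), (10, 121), (11, 118), (12, 105), (13, 124), (15, 106), (16, 111), (18, 119), (19, 120), (20, 82), (21, 107), (22, 109)]),
  (7, [(7, 100000), (10, 116), (12, 117)])]

theorem wit_2_23_23 : ∃ x y z : ↥Spor.M23, orderOf x = 2 ∧ orderOf y = 23 ∧ orderOf z = 23 ∧
    x * y * z = 1 ∧ Subgroup.closure {x, y} = ⊤ :=
  gen_witness 2 23 23 (by norm_num) (by norm_num) (by norm_num) wx_2_23_23 wy_2_23_23 pr_2_23_23 lv_2_23_23
    (by decide +kernel) (by decide +kernel) (by decide +kernel) (by decide +kernel)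
    (by decide +kernel)

def wx_3_3_11 : List Bool := [true, true, true, true, true, true, true, false, true, false, true, false, true, true, false]

def wy_3_3_11 : List Bool := [true, true, false, true, true, true, true, true, false, true, false, true, true, true, false, true]

def pr_3_3_11 : List (ℕ × ℕ) := [(0, 0), (1, 0), (0, 1), (1, 1), (1, 2), (1, 3), (0, 4), (0, 6), (1, 6), (0, 7), (1, 8), (0, 9), (0, 11), (1, 11), (0, 12), (1, 13), (1, 15), (0, 16), (0, 17), (1, 17), (3, 3), (22, 22), (23, 23), (22, 24), (4, 4), (26, 26), (27, 27), (26, 28), (5, 5), (0, 3), (25, 31), (32, 32), (1, 4), (29, 34), (35, 32), (32, 35), (35, 35), (35, 33), (32, 36), (35, 36), (32, 37), (35, 37), (35, 39), (36, 36), (32, 39), (45, 46), (47, 47), (48, 48), (44, 44), (0, 5), (30, 51), (50, 52), (53, 47), (47, 53), (53, 53), (47, 55), (53, 55), (47, 56), (53, 56), (53, 57), (47, 58), (53, 58), (47, 59), (47, 60), (53, 60), (47, 61), (53, 62), (47, 65), (47, 67), (53, 32), (53, 35), (53, 33),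 (53, 36), (53, 37), (53, 39), (32, 75), (53, 44), (35, 77), (54, 54), (80, 80), (80, 81), (55, 55), (83, 83), (83, 84), (53, 48), (85, 86), (87, 87), (87, 88), (88, 88), (47, 54), (82, 91), (90, 92), (93, 87), (93, 88), (87, 94), (87, 95), (87, 96), (87, 97), (99, 99), (93, 98), (100, 101), (102, 93), (53, 54), (49, 104), (105, 87), (87, 105), (93, 105), (105, 94), (87, 106), (93, 106), (105, 106), (87, 107), (105, 107), (105, 108), (87, 110), (93, 110), (105, 111), (105, 105), (90, 119), (120, 93), (120, 102), (93, 120), (102, 120), (93, 121), (102, 121), (120, 121), (93, 122), (102, 123), (120, 123), (120, 124), (120, 120), (103, 132), (133, 133)]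

def lv_3_3_11 : List (ℕ × List (ℕ × ℕ)) := [(0, [(0, 100000), (1, 17), (2, 3), (3, 12), (4, 8), (5, 2), (6, 4), (7, 7), (8, 10), (9, 5), (10, 1), (11, 0), (12, 13), (13, 21), (14, 15), (15, 18), (16, 19), (17, 6), (18, 14), (19, 11), (20, 9), (21, 20), (22, 16)]),
  (1, [(1, 100000), (2, 76), (3, 38), (4, 78), (5, 40), (6, 73), (7, 41), (8, 44), (9, 74), (10, 39), (11, 37), (12, 72), (13, 32), (14, 79), (15, 75), (16, 42), (17, 36), (18, 43), (19, 77), (20, 33), (21, 35), (22, 71)]),
  (2, [(2, 100000), (3, 64), (4, 63), (5, 70), (6, 60), (7, 53), (8, 58), (9, 69), (10, 61), (11, 59), (12, 68), (13, 66), (14, 48), (15, 47), (16, 67), (17, 65), (18, 55), (19, 54), (20, 56), (21, 62), (22, 57)]),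
  (3, [(3, 100000), (4, 88), (5, 116), (6, 106), (7, 89), (8, 105), (9, 95), (10, 87), (11, 114), (12, 111), (13, 112), (14, 107), (15, 113), (16, 115), (17, 109), (18, 110), (19, 117), (20, 118), (21, 108), (22, 94)]),
  (4, [(4, 100000), (6, 131), (7, 102), (8, 122), (9, 93), (10, 121), (11, 103), (12, 126), (13, 130), (15, 127), (16, 124), (18, 123), (19, 120), (20, 129), (21, 128), (22, 125)]),
  (7, [(7, 100000), (10, 134), (12, 133)])]

theorem wit_3_3_11 : ∃ x y z : ↥Spor.M23, orderOf x = 3 ∧ orderOf y = 3 ∧ orderOf z = 11 ∧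
    x * y * z = 1 ∧ Subgroup.closure {x, y} = ⊤ :=
  gen_witness 3 3 11 (by norm_num) (by norm_num) (by norm_num) wx_3_3_11 wy_3_3_11 pr_3_3_11 lv_3_3_11
    (by decide +kernel) (by decide +kernel) (by decide +kernel) (by decide +kernel)
    (by decide +kernel)

def wx_3_3_23 : List Bool := [true, true, false, true, true, true, true, true, true, true, false, true, false, true, false]

def wy_3_3_23 : List Bool := [true, false, true, true, true, false, true, true, true, false, true, true, true, true, true, false]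

def pr_3_3_23 : List (ℕ × ℕ) := [(0, 0), (0, 1), (1, 1), (1, 2), (0, 3), (0, 4), (0, 5), (1, 5), (1, 6), (0, 7), (1, 7), (0, 8), (1, 8), (0, 9), (0, 10), (1, 10), (1, 12), (1, 14), (0, 15), (0, 16), (1, 0), (2, 22), (23, 23), (3, 3), (25, 25), (25, 26), (26, 26), (28, 28), (27, 29), (1, 3), (30, 31), (24, 32), (33, 33), (33, 34), (33, 35), (33, 23), (23, 37), (33, 37), (23, 38), (23, 39), (33, 40), (36, 36), (43, 43), (40, 40), (45, 45), (33, 39), (46, 47), (44, 48), (49, 33), (49, 34), (50, 50), (52, 52), (53, 35), (54, 49), (49, 54), (54, 54), (49, 55), (54, 55), (49, 57), (11, 11), (61, 61), (61, 62), (62, 62), (64, 64), (63, 65), (1, 11), (66, 67), (53, 68), (69, 49), (69, 54), (54, 69), (69, 69), (69, 55), (69, 56), (54, 71), (54, 72), (54, 73), (69, 58), (69, 75), (69, 33), (69, 34), (69, 50), (49, 81), (69, 51), (49, 82), (33, 83), (33, 84), (69, 84), (33, 85), (49, 85), (33, 87), (33, 90), (33, 91), (49, 92), (69, 93), (69, 23), (69, 24), (69, 37), (23, 97), (33, 97),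 (69, 97), (69, 98), (33, 99), (33, 100), (33, 101), (69, 101), (23, 107), (33, 107), (69, 73), (70, 70), (49, 69), (110, 112), (111, 59), (114, 113), (113, 114), (114, 114), (113, 115), (114, 115), (114, 116), (118, 118), (49, 70), (73, 122), (121, 123), (124, 124), (124, 113), (124, 115), (113, 126), (124, 117), (124, 119), (124, 127), (124, 120)]

def lv_3_3_23 : List (ℕ × List (ℕ × ℕ)) := [(0, [(0, 100000), (1, 20), (2, 18), (3, 8), (4, 10), (5, 7), (6, 2), (7, 4), (8, 19), (9, 15), (10, 5), (11, 11), (12, 1), (13, 16), (14, 13), (15, 0), (16, 6), (17, 14), (18, 9), (19, 3), (20, 21), (21, 17), (22, 12)]),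
  (1, [(1, 100000), (2, 109), (3, 103), (4, 39), (5, 104), (6, 105), (7, 107), (8, 100), (9, 102), (10, 98), (11, 101), (12, 99), (13, 41), (14, 24), (15, 23), (16, 42), (17, 97), (18, 106), (19, 37), (20, 38), (21, 40), (22, 108)]),
  (2, [(2, 100000), (3, 95), (4, 92), (5, 50), (6, 91), (7, 51), (8, 86), (9, 89), (10, 96), (11, 88), (12, 34), (13, 94), (14, 93), (15, 83), (16, 81), (17, 84), (18, 85), (19, 87), (20, 90), (21, 82), (22, 33)]),
  (3, [(3, 100000), (4, 49), (5, 76), (6, 57), (7, 71), (8, 78), (9, 79), (10, 77), (11, 54), (12, 75), (13, 70), (14, 73), (15, 72), (16, 55), (17, 58), (18, 60), (19, 56), (20, 69), (21, 80), (22, 74)]),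
  (4, [(4, 100000), (6, 114), (7, 132), (8, 116), (9, 130), (10, 118), (11, 126), (12, 120), (13, 115), (15, 117), (16, 131), (18, 129), (19, 128), (20, 113), (21, 119), (22, 127)]),
  (7, [(7, 100000), (10, 124), (12, 125)])]

theorem wit_3_3_23 : ∃ x y z : ↥Spor.M23, orderOf x = 3 ∧ orderOf y = 3 ∧ orderOf z = 23 ∧
    x * y * z = 1 ∧ Subgroup.closure {x, y} = ⊤ :=
  gen_witness 3 3 23 (by norm_num) (by norm_num) (by norm_num) wx_3_3_23 wy_3_3_23 pr_3_3_23 lv_3_3_23
    (by decide +kernel) (by decide +kernel) (by decide +kernel) (by decide +kernel)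
    (by decide +kernel)

end Cfsg.Agent.Helper9.Ree
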