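import Mathlib
import Cfsg.Prelude
import Cfsg.Agent.Helper9.Ree.M23Pos

set_option autoImplicit false

/-! generated: pairs of elements of prime orders generating the Mathieu group on 23 points,
as words in its two standard generators, with chains of stabilizers of the groups they generate -/

namespace Cfsg.Agent.Helper9.Ree

open Cfsg Cfsg.Agent.Helper9.Golay

def wx_3_5_5 : List Bool := [true, true, true, true, true, false, true, false, true, true, true, false, true, true, true, false]

def wy_3_5_5 : List Bool := [false, true, true, false, true, true, false, true, true]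

def pr_3_5_5 : List (ℕ × ℕ) := [(0, 0), (1, 0), (1, 2), (1, 3), (1, 4), (0, 5), (1, 5), (0, 6), (1, 6), (0, 7), (1, 7), (0, 8), (1, 8), (0, 9), (1, 10), (1, 12), (1, 13), (1, 17), (0, 18), (1, 18), (1, 21), (1, 1), (1, 23), (1, 24), (23, 23), (3, 3), (27, 27), (4, 4), (29, 29), (4, 30), (30, 30), (31, 32), (0, 3), (28, 34), (26, 35), (36, 36), (36, 1), (36, 23), (1, 38), (36, 38), (36, 24), (36, 39), (1, 40), (36, 25), (36, 42), (43, 43), (43, 47), (44, 44), (44, 49), (1, 41), (48, 51), (52, 36), (36, 52), (52, 52), (52, 37), (36, 53), (36, 56), (52, 56), (58, 58), (46, 46), (61, 61), (1, 44), (62, 63), (55, 64), (65, 65), (65, 37), (65, 53), (65, 54), (65, 55), (0, 4), (33, 71), (50, 72), (60, 73), (74, 65), (65, 74), (74, 66), (65, 75), (74, 75), (65, 76), (74, 76), (74, 77), (65, 78), (65, 79), (74, 79), (74, 80), (74, 81), (65, 82), (74, 83), (74, 85), (74, 52), (74, 37), (74, 53), (74, 54), (74, 56), (74, 57), (74, 95), (74, 1), (74, 23), (74, 38), (1, 98), (74, 98), (1, 99),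 (74, 40), (1, 101), (74, 101), (1, 102), (74, 45), (74, 74), (76, 76), (110, 110), (111, 109), (112, 112), (77, 77), (65, 77), (114, 115), (116, 112), (112, 116), (116, 116), (116, 113), (116, 117), (112, 118), (112, 119), (112, 121), (83, 83), (125, 125), (74, 78), (126, 127), (124, 128), (129, 129), (129, 116), (129, 113), (129, 117), (112, 131), (129, 123)]

def lv_3_5_5 : List (ℕ × List (ℕ × ℕ)) := [(0, [(0, 100000), (1, 19), (2, 12), (3, 6), (4, 0), (5, 2), (6, 15), (7, 7), (8, 5), (9, 22), (10, 20), (11, 13), (12, 14), (13, 21), (14, 4), (15, 11), (16, 10), (17, 18), (18, 16), (19, 17), (20, 3), (21, 9), (22, 8)]),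
  (1, [(1, 100000), (2, 24), (3, 99), (4, 107), (5, 38), (6, 108), (7, 23), (8, 104), (9, 105), (10, 106), (11, 100), (12, 102), (13, 101), (14, 40), (15, 41), (16, 103), (17, 98), (18, 42), (19, 25), (20, 45), (21, 1), (22, 39)]),
  (2, [(2, 100000), (3, 94), (4, 55), (5, 70), (6, 93), (7, 54), (8, 96), (9, 92), (10, 97), (11, 52), (12, 56), (13, 95), (14, 57), (15, 68), (16, 37), (17, 67), (18, 36), (19, 59), (20, 53), (21, 69), (22, 91)]),
  (3, [(3, 100000), (4, 75), (5, 78), (6, 85), (7, 87), (8, 65), (9, 81), (10, 77), (11, 83), (12, 86), (13, 66), (14, 90), (15, 84), (16, 76), (17, 80), (18, 74), (19, 88), (20, 79), (21, 82), (22, 89)]),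
  (4, [(4, 100000), (6, 116), (7, 118), (8, 134), (9, 121), (10, 117), (11, 113), (12, 133), (13, 120), (15, 131), (16, 135), (18, 119), (19, 132), (20, 112), (21, 122), (22, 123)]),
  (7, [(7, 100000), (10, 129), (12, 130)])]

theorem wit_3_5_5 : ∃ x y z : ↥Spor.M23, orderOf x = 3 ∧ orderOf y = 5 ∧ orderOf z = 5 ∧
    x * y * z = 1 ∧ Subgroup.closure {x, y} = ⊤ :=
  gen_witness 3 5 5 (by norm_num) (by norm_num) (by norm_num) wx_3_5_5 wy_3_5_5 pr_3_5_5 lv_3_5_5
    (by decide +kernel) (by decide +kernel) (by decide +kernel) (by decide +kernel)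
    (by decide +kernel)

def wx_3_5_7 : List Bool := [true, false, true, true, true, true, true, true, true, false, true, false, true, false, true]

def wy_3_5_7 : List Bool := [true, true, false]

def pr_3_5_7 : List (ℕ × ℕ) := [(0, 0), (2, 2), (1, 0), (0, 1), (1, 1), (1, 4), (0, 5), (1, 5), (0, 6), (1, 6), (0, 7), (1, 7), (0, 9), (1, 9), (0, 11), (1, 11), (0, 12), (1, 12), (1, 14), (1, 15), (1, 20), (6, 6), (23, 23), (1, 2), (3, 25), (26, 26), (26, 27), (26, 28), (0, 4), (24, 30), (31, 26), (26, 31), (31, 31), (31, 27), (26, 32), (31, 32), (26, 33), (31, 34), (26, 35), (31, 35), (26, 36), (31, 36), (31, 38), (31, 39), (31, 29), (26, 41), (34, 34), (34, 48), (36, 36), (50, 50), (50, 51), (31, 33), (52, 53), (54, 54), (26, 34), (49, 56), (57, 54), (57, 57), (57, 55), (54, 58), (57, 58), (54, 59), (57, 59), (54, 60), (57, 60), (54, 61), (54, 63), (57, 63), (57, 64), (57, 65), (57, 67), (57, 68), (54, 71), (59, 59), (54, 57), (75, 76), (77, 77), (61, 61), (79, 79), (79, 80), (57, 61),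 (81, 82), (83, 77), (77, 83), (83, 83), (83, 78), (77, 85), (83, 85), (77, 86), (83, 86), (77, 87), (83, 87), (83, 89), (83, 90), (77, 91), (77, 93), (83, 93), (83, 95), (86, 86), (85, 85), (101, 101), (100, 100), (77, 84), (103, 104), (105, 105), (83, 84), (102, 107), (108, 105), (105, 108), (108, 108), (108, 106), (105, 109), (83, 88), (114, 105), (114, 108), (105, 114), (108, 114), (114, 114), (114, 115), (108, 116), (116, 116), (122, 112), (123, 123)]

def lv_3_5_7 : List (ℕ × List (ℕ × ℕ)) := [(0, [(0, 100000), (1, 21), (2, 16), (3, 6), (4, 1), (5, 14), (6, 8), (7, 19), (8, 2), (9, 11), (10, 5), (11, 7), (12, 10), (13, 13), (14, 9), (15, 18), (16, 22), (17, 0), (18, 12), (19, 4), (20, 20), (21, 17), (22, 15)]),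
  (1, [(1, 100000), (2, 40), (3, 39), (4, 26), (5, 28), (6, 27), (7, 46), (8, 37), (9, 36), (10, 38), (11, 42), (12, 35), (13, 34), (14, 29), (15, 45), (16, 47), (17, 33), (18, 32), (19, 43), (20, 41), (21, 31), (22, 44)]),
  (2, [(2, 100000), (3, 69), (4, 59), (5, 54), (6, 62), (7, 58), (8, 73), (9, 68), (10, 67), (11, 57), (12, 72), (13, 71), (14, 60), (15, 70), (16, 65), (17, 61), (18, 63), (19, 55), (20, 74), (21, 64), (22, 66)]),
  (3, [(3, 100000), (4, 90), (5, 77), (6, 91), (7, 96), (8, 83), (9, 92), (10, 86), (11, 99), (12, 87), (13, 88), (14, 95), (15, 85), (16, 94), (17, 78), (18, 84), (19, 98), (20, 93), (21, 89), (22, 97)]),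
  (4, [(4, 100000), (6, 111), (7, 106), (8, 117), (9, 121), (10, 105), (11, 114), (12, 118), (13, 113), (15, 108), (16, 116), (18, 120), (19, 109), (20, 119), (21, 110), (22, 115)]),
  (7, [(7, 100000), (10, 123), (12, 124)])]

theorem wit_3_5_7 : ∃ x y z : ↥Spor.M23, orderOf x = 3 ∧ orderOf y = 5 ∧ orderOf z = 7 ∧
    x * y * z = 1 ∧ Subgroup.closure {x, y} = ⊤ :=
  gen_witness 3 5 7 (by norm_num) (by norm_num) (by norm_num) wx_3_5_7 wy_3_5_7 pr_3_5_7 lv_3_5_7
    (by decide +kernel) (by decide +kernel) (by decide +kernel) (by decide +kernel)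
    (by decide +kernel)

def wx_3_5_11 : List Bool := [true, true, false, true, false, true, false, true, true, false, true, true, true, true, true]

def wy_3_5_11 : List Bool := [true, true, false]

def pr_3_5_11 : List (ℕ × ℕ) := [(0, 0), (1, 0), (1, 1), (1, 2), (0, 3), (1, 3), (1, 4), (1, 5), (0, 6), (0, 7), (1, 7), (1, 8), (0, 9), (1, 9), (1, 10), (1, 12), (0, 14), (0, 16), (1, 16), (0, 17), (4, 4), (0, 1), (22, 23), (24, 24), (22, 22), (6, 6), (27, 27), (27, 28), (28, 28), (30, 30), (29, 31), (0, 4), (26, 33), (34, 34), (34, 25), (24, 36), (34, 36), (24, 37), (34, 37), (24, 38), (34, 39), (24, 40), (24, 41), (24, 43), (34, 45), (35, 35), (34, 24), (25, 48), (49, 34), (34, 49), (49, 49), (34, 50), (49, 51), (34, 52), (49, 53), (51, 51), (49, 35), (57, 58), (59, 59), (44, 44), (61, 61), (61, 62), (34, 42), (63, 64), (52, 65), (66, 59), (59, 66), (66, 60), (59, 67), (66, 68), (66, 34), (66, 35), (49, 72), (49, 73), (66, 49), (52, 76), (60, 77), (78, 78), (78, 66), (78, 60), (78,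 67), (66, 80), (78, 69), (46, 46), (85, 85), (85, 86), (1, 6), (32, 88), (87, 89), (47, 90), (66, 91), (78, 92), (78, 93), (92, 59), (92, 66), (92, 68), (59, 96), (92, 70), (59, 97), (92, 98), (92, 34), (92, 49), (92, 35), (92, 51), (92, 52), (66, 103), (92, 24), (92, 25), (24, 108), (34, 108), (24, 109), (34, 109), (92, 109), (24, 110), (34, 110), (92, 110), (34, 111), (34, 112), (92, 39), (92, 120), (95, 95), (122, 81), (123, 92), (78, 123), (92, 123), (123, 123), (123, 93), (78, 124), (123, 124), (92, 125), (92, 126), (92, 127), (92, 131)]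

def lv_3_5_11 : List (ℕ × List (ℕ × ℕ)) := [(0, [(0, 100000), (1, 11), (2, 18), (3, 4), (4, 1), (5, 7), (6, 2), (7, 3), (8, 21), (9, 8), (10, 5), (11, 19), (12, 6), (13, 14), (14, 9), (15, 10), (16, 17), (17, 16), (18, 0), (19, 20), (20, 12), (21, 13), (22, 15)]),
  (1, [(1, 100000), (2, 41), (3, 119), (4, 121), (5, 117), (6, 120), (7, 115), (8, 109), (9, 111), (10, 116), (11, 38), (12, 36), (13, 37), (14, 110), (15, 113), (16, 25), (17, 112), (18, 39), (19, 114), (20, 118), (21, 24), (22, 108)]),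
  (2, [(2, 100000), (3, 74), (4, 102), (5, 53), (6, 34), (7, 54), (8, 72), (9, 55), (10, 75), (11, 103), (12, 106), (13, 49), (14, 105), (15, 50), (16, 104), (17, 51), (18, 73), (19, 35), (20, 56), (21, 107), (22, 52)]),
  (3, [(3, 100000), (4, 101), (5, 60), (6, 98), (7, 83), (8, 84), (9, 69), (10, 66), (11, 71), (12, 80), (13, 100), (14, 95), (15, 67), (16, 99), (17, 59), (18, 82), (19, 70), (20, 96), (21, 68), (22, 97)]),
  (4, [(4, 100000), (6, 93), (7, 131), (8, 124), (9, 126), (10, 132), (11, 125), (12, 130), (13, 134), (15, 94), (16, 133), (18, 92), (19, 127), (20, 123), (21, 129), (22, 128)]),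
  (7, [(7, 100000), (10, 78), (12, 79)])]

theorem wit_3_5_11 : ∃ x y z : ↥Spor.M23, orderOf x = 3 ∧ orderOf y = 5 ∧ orderOf z = 11 ∧
    x * y * z = 1 ∧ Subgroup.closure {x, y} = ⊤ :=
  gen_witness 3 5 11 (by norm_num) (by norm_num) (by norm_num) wx_3_5_11 wy_3_5_11 pr_3_5_11 lv_3_5_11
    (by decide +kernel) (by decide +kernel) (by decide +kernel) (by decide +kernel)
    (by decide +kernel)

def wx_3_5_23 : List Bool := [true, true, false, true, true, true, true, true, true, true, false, true, false, true, false]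

def wy_3_5_23 : List Bool := [true, false, true]

def pr_3_5_23 : List (ℕ × ℕ) := [(0, 0), (2, 2), (1, 0), (0, 1), (1, 1), (1, 2), (0, 5), (0, 6), (1, 6), (1, 7), (0, 9), (0, 10), (1, 10), (0, 11), (1, 12), (1, 13), (0, 15), (0, 16), (1, 18), (1, 19), (1, 21), (4, 4), (23, 23), (23, 24), (24, 24), (26, 26), (25, 27), (0, 4), (28, 29), (30, 30), (1, 4), (3, 32), (33, 30), (30, 33), (33, 33), (33, 31), (33, 34), (30, 35), (33, 35), (30, 36), (30, 37), (33, 38), (33, 39), (33, 40), (33, 41), (30, 42), (33, 42), (30, 44), (30, 45), (33, 47), (34, 34), (52, 52), (52, 53), (30, 34), (54, 55), (56, 56), (39, 39), (58, 58), (58, 59), (33, 36), (60, 61), (56, 62), (62, 62), (56, 63), (62, 63), (56, 64), (62, 64), (62, 65), (62, 66), (56, 67), (62, 67), (56, 68), (62, 68), (56, 69), (56, 70), (62, 72), (62, 73), (62, 75), (62, 76), (62, 80), (69, 69), (82, 82), (56, 66), (83, 84), (56, 85), (85, 85), (56, 86), (85, 86), (56, 87), (85, 87), (85, 88), (56, 89), (56, 90), (85, 90), (56, 91),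 (56, 92), (85, 92), (85, 93), (85, 94), (85, 96), (85, 99), (85, 102), (86, 86), (104, 104), (85, 89), (105, 106), (107, 56), (56, 107), (107, 57), (56, 108), (107, 109), (95, 95), (113, 113), (56, 93), (114, 115), (116, 116), (116, 107), (116, 57), (116, 108), (107, 118), (116, 110), (107, 119), (116, 120)]

def lv_3_5_23 : List (ℕ × List (ℕ × ℕ)) := [(0, [(0, 100000), (1, 9), (2, 21), (3, 19), (4, 7), (5, 1), (6, 2), (7, 8), (8, 22), (9, 6), (10, 16), (11, 5), (12, 18), (13, 10), (14, 20), (15, 0), (16, 15), (17, 4), (18, 12), (19, 11), (20, 13), (21, 14), (22, 17)]),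
  (1, [(1, 100000), (2, 34), (3, 36), (4, 38), (5, 50), (6, 45), (7, 35), (8, 49), (9, 39), (10, 46), (11, 51), (12, 37), (13, 48), (14, 41), (15, 43), (16, 31), (17, 42), (18, 44), (19, 33), (20, 40), (21, 47), (22, 30)]),
  (2, [(2, 100000), (3, 81), (4, 68), (5, 66), (6, 62), (7, 73), (8, 78), (9, 71), (10, 72), (11, 70), (12, 74), (13, 64), (14, 75), (15, 79), (16, 65), (17, 69), (18, 76), (19, 67), (20, 63), (21, 80), (22, 77)]),
  (3, [(3, 100000), (4, 89), (5, 87), (6, 98), (7, 93), (8, 92), (9, 100), (10, 95), (11, 97), (12, 103), (13, 101), (14, 94), (15, 85), (16, 96), (17, 90), (18, 99), (19, 102), (20, 91), (21, 88), (22, 86)]),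
  (4, [(4, 100000), (6, 112), (7, 56), (8, 124), (9, 120), (10, 57), (11, 122), (12, 119), (13, 107), (15, 111), (16, 121), (18, 123), (19, 109), (20, 110), (21, 108), (22, 118)]),
  (7, [(7, 100000), (10, 116), (12, 117)])]

theorem wit_3_5_23 : ∃ x y z : ↥Spor.M23, orderOf x = 3 ∧ orderOf y = 5 ∧ orderOf z = 23 ∧
    x * y * z = 1 ∧ Subgroup.closure {x, y} = ⊤ :=
  gen_witness 3 5 23 (by norm_num) (by norm_num) (by norm_num) wx_3_5_23 wy_3_5_23 pr_3_5_23 lv_3_5_23
    (by decide +kernel) (by decide +kernel) (by decide +kernel) (by decide +kernel)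
    (by decide +kernel)

def wx_3_7_7 : List Bool := [true, true, true, true, true, true, true, false, true, false, true, false, true, true, false]

def wy_3_7_7 : List Bool := [true, false, true, false]

def pr_3_7_7 : List (ℕ × ℕ) := [(0, 0), (1, 1), (1, 2), (1, 3), (0, 4), (1, 4), (0, 5), (1, 5), (1, 6), (1, 7), (0, 8), (0, 9), (0, 10), (1, 10), (1, 11), (0, 13), (1, 13), (0, 14), (1, 17), (1, 18), (3, 3), (3, 22), (1, 0), (2, 24), (25, 25), (25, 26), (25, 27), (25, 28), (26, 26), (26, 30), (0, 1), (23, 32), (33, 25), (25, 33), (33, 33), (25, 34), (25, 35), (33, 27), (25, 37), (33, 37), (25, 38), (33, 38), (25, 39), (33, 39), (25, 40), (33, 40), (33, 41), (35, 35), (33, 26), (31, 50), (51, 51), (52, 52), (33, 35), (49, 54), (51, 55), (55, 55), (51, 56), (55, 56), (51, 57), (55, 58), (51, 59), (55, 59), (51, 60), (55, 60), (51, 61), (51, 62), (55, 62), (55, 65), (55, 67), (55, 68), (55, 70), (55, 51), (52, 73), (74, 74), (75, 75), (55, 52), (53, 77), (78, 74), (74, 78), (78, 78),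 (74, 79), (74, 80), (74, 82), (78, 82), (78, 85), (78, 75), (76, 87), (88, 88), (89, 89), (82, 82), (82, 91), (64, 64), (93, 93), (93, 94), (55, 61), (95, 96), (92, 97), (98, 88), (88, 98), (98, 89), (88, 99), (98, 100), (98, 74), (74, 104), (78, 104), (98, 80), (98, 81), (98, 106), (78, 107), (78, 109), (98, 78), (76, 112), (90, 113), (114, 114), (114, 98), (114, 89), (114, 99), (98, 116), (114, 101), (98, 117), (114, 118)]

def lv_3_7_7 : List (ℕ × List (ℕ × ℕ)) := [(0, [(0, 100000), (1, 5), (2, 20), (3, 16), (4, 3), (5, 2), (6, 6), (7, 17), (8, 1), (9, 18), (10, 4), (11, 0), (12, 14), (13, 12), (14, 7), (15, 21), (16, 15), (17, 19), (18, 13), (19, 9), (20, 10), (21, 8), (22, 11)]),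
  (1, [(1, 100000), (2, 38), (3, 36), (4, 47), (5, 25), (6, 27), (7, 29), (8, 26), (9, 46), (10, 44), (11, 42), (12, 39), (13, 28), (14, 41), (15, 45), (16, 33), (17, 34), (18, 35), (19, 40), (20, 48), (21, 43), (22, 37)]),
  (2, [(2, 100000), (3, 58), (4, 66), (5, 69), (6, 51), (7, 56), (8, 64), (9, 72), (10, 61), (11, 59), (12, 70), (13, 52), (14, 65), (15, 71), (16, 55), (17, 67), (18, 63), (19, 60), (20, 62), (21, 68), (22, 57)]),
  (3, [(3, 100000), (4, 110), (5, 111), (6, 106), (7, 105), (8, 74), (9, 83), (10, 86), (11, 109), (12, 82), (13, 75), (14, 79), (15, 80), (16, 107), (17, 85), (18, 81), (19, 104), (20, 78), (21, 108), (22, 84)]),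
  (4, [(4, 100000), (6, 99), (7, 116), (8, 121), (9, 103), (10, 98), (11, 88), (12, 119), (13, 101), (15, 122), (16, 120), (18, 118), (19, 117), (20, 89), (21, 102), (22, 100)]),
  (7, [(7, 100000), (10, 115), (12, 114)])]

theorem wit_3_7_7 : ∃ x y z : ↥Spor.M23, orderOf x = 3 ∧ orderOf y = 7 ∧ orderOf z = 7 ∧
    x * y * z = 1 ∧ Subgroup.closure {x, y} = ⊤ :=
  gen_witness 3 7 7 (by norm_num) (by norm_num) (by norm_num) wx_3_7_7 wy_3_7_7 pr_3_7_7 lv_3_7_7
    (by decide +kernel) (by decide +kernel) (by decide +kernel) (by decide +kernel)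
    (by decide +kernel)

def wx_3_7_11 : List Bool := [true, true, true, true, false, true, false, true, true, true, false, true, true, true, false, true]

def wy_3_7_11 : List Bool := [true, false, true, false]

def pr_3_7_11 : List (ℕ × ℕ) := [(0, 0), (1, 1), (0, 3), (1, 3), (0, 4), (0, 5), (1, 5), (1, 6), (0, 7), (1, 7), (1, 8), (1, 9), (1, 10), (0, 11), (1, 11), (1, 12), (1, 13), (0, 14), (1, 14), (1, 16), (0, 17), (0, 22), (3, 3), (3, 24), (0, 1), (25, 26), (27, 27), (27, 0), (27, 2), (0, 29), (27, 29), (0, 30), (27, 30), (0, 32), (0, 34), (0, 36), (35, 35), (38, 38), (38, 39), (27, 33), (40, 41), (42, 27), (27, 42), (42, 42), (42, 28), (27, 43), (42, 43), (27, 44), (42, 44), (42, 45), (45, 45), (52, 52), (46, 46), (54, 54), (48, 48), (56, 56), (27, 45), (55, 58), (59, 59), (60, 60), (51, 51), (62, 62), (27, 46), (63, 64), (65, 59), (59, 65), (65, 65), (65, 60), (59, 66), (65, 66), (65, 69), (27, 47), (57, 73), (61, 74), (75, 75), (75, 60), (75, 66), (75, 67), (77, 77), (79,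 79), (37, 37), (82, 82), (6, 6), (6, 84), (84, 84), (85, 86), (1, 4), (87, 88), (83, 89), (90, 27), (90, 28), (90, 43), (27, 91), (42, 91), (90, 91), (27, 92), (90, 48), (42, 94), (90, 2), (90, 29), (90, 30), (90, 100), (90, 31), (90, 101), (90, 34), (0, 102), (90, 102), (90, 104), (27, 106), (90, 42), (53, 111), (81, 112), (113, 75), (75, 113), (113, 113), (113, 76), (113, 114), (75, 115), (75, 116), (113, 59), (113, 65), (113, 60), (113, 121), (59, 123), (113, 71), (113, 66), (80, 127), (75, 128), (128, 114), (128, 115), (128, 129), (128, 75), (116, 133), (134, 134)]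

def lv_3_7_11 : List (ℕ × List (ℕ × ℕ)) := [(0, [(0, 100000), (1, 5), (2, 13), (3, 6), (4, 3), (5, 18), (6, 11), (7, 9), (8, 1), (9, 14), (10, 22), (11, 23), (12, 19), (13, 12), (14, 15), (15, 20), (16, 21), (17, 7), (18, 10), (19, 8), (20, 16), (21, 17), (22, 4)]),
  (1, [(1, 100000), (2, 104), (3, 32), (4, 35), (5, 36), (6, 107), (7, 102), (8, 106), (9, 101), (10, 29), (11, 31), (12, 30), (13, 103), (14, 110), (15, 108), (16, 33), (17, 0), (18, 2), (19, 109), (20, 34), (21, 100), (22, 105)]),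
  (2, [(2, 100000), (3, 95), (4, 45), (5, 44), (6, 28), (7, 27), (8, 98), (9, 50), (10, 97), (11, 49), (12, 47), (13, 42), (14, 96), (15, 91), (16, 94), (17, 92), (18, 43), (19, 90), (20, 48), (21, 93), (22, 99)]),
  (3, [(3, 100000), (4, 60), (5, 122), (6, 125), (7, 123), (8, 78), (9, 72), (10, 70), (11, 59), (12, 67), (13, 79), (14, 68), (15, 66), (16, 121), (17, 65), (18, 69), (19, 126), (20, 77), (21, 124), (22, 71)]),
  (4, [(4, 100000), (6, 119), (7, 113), (8, 132), (9, 114), (10, 131), (11, 76), (12, 116), (13, 120), (15, 118), (16, 117), (18, 128), (19, 130), (20, 75), (21, 115), (22, 129)]),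
  (7, [(7, 100000), (10, 134), (12, 135)])]

theorem wit_3_7_11 : ∃ x y z : ↥Spor.M23, orderOf x = 3 ∧ orderOf y = 7 ∧ orderOf z = 11 ∧
    x * y * z = 1 ∧ Subgroup.closure {x, y} = ⊤ :=
  gen_witness 3 7 11 (by norm_num) (by norm_num) (by norm_num) wx_3_7_11 wy_3_7_11 pr_3_7_11 lv_3_7_11
    (by decide +kernel) (by decide +kernel) (by decide +kernel) (by decide +kernel)
    (by decide +kernel)

def wx_3_7_23 : List Bool := [true, true, false, true, false, true, false, true, true, false, true, true, true, true, true]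

def wy_3_7_23 : List Bool := [true, false, true, false]

def pr_3_7_23 : List (ℕ × ℕ) := [(0, 0), (1, 0), (0, 1), (1, 1), (1, 2), (1, 3), (0, 4), (1, 4), (1, 5), (0, 7), (1, 7), (0, 9), (1, 9), (0, 10), (0, 11), (0, 12), (0, 13), (1, 13), (1, 15), (1, 19), (5, 5), (3, 3), (23, 23), (23, 24), (24, 24), (26, 26), (25, 27), (22, 22), (22, 29), (6, 6), (31, 31), (6, 32), (32, 32), (33, 34), (0, 3), (28, 36), (37, 37), (0, 5), (30, 39), (37, 40), (40, 40), (37, 41), (40, 41), (37, 42), (40, 43), (37, 44), (40, 44), (37, 46), (47, 47), (50, 50), (40, 45), (51, 52), (53, 37), (37, 53), (53, 53), (53, 54), (37, 55), (37, 56), (37, 57), (58, 58), (49, 49), (49, 62), (40, 46), (63, 64), (61, 65), (66, 59), (66, 60), (66, 37), (38, 69), (70, 66), (68, 68), (0, 6), (35, 73), (72, 74), (75, 66), (66, 75), (70, 75), (75, 71), (66, 76), (70, 76), (75, 76), (75, 77), (75, 78), (75, 79), (70, 80), (70, 82), (70, 85), (75, 85), (75, 87), (75, 37), (75, 53), (75, 38), (66, 91), (75, 55), (75, 56),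 (75, 92), (66, 93), (75, 93), (37, 94), (66, 95), (75, 41), (75, 42), (75, 43), (37, 102), (75, 102), (37, 103), (75, 46), (37, 104), (75, 104), (75, 48), (40, 106), (37, 108), (37, 109), (75, 75), (75, 70), (116, 116), (78, 78), (118, 115), (119, 116), (116, 119), (119, 119), (119, 117), (119, 120), (122, 122), (79, 79), (126, 126), (70, 77), (127, 128), (129, 116), (116, 129), (129, 117), (129, 120), (119, 132), (119, 133), (129, 119), (125, 136), (137, 137)]

def lv_3_7_23 : List (ℕ × List (ℕ × ℕ)) := [(0, [(0, 100000), (1, 10), (2, 13), (3, 20), (4, 5), (5, 19), (6, 2), (7, 11), (8, 1), (9, 3), (10, 21), (11, 17), (12, 16), (13, 9), (14, 18), (15, 7), (16, 8), (17, 12), (18, 0), (19, 4), (20, 6), (21, 14), (22, 15)]),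
  (1, [(1, 100000), (2, 114), (3, 40), (4, 109), (5, 42), (6, 105), (7, 41), (8, 44), (9, 43), (10, 48), (11, 46), (12, 112), (13, 104), (14, 113), (15, 47), (16, 111), (17, 108), (18, 110), (19, 103), (20, 102), (21, 107), (22, 106)]),
  (2, [(2, 100000), (3, 98), (4, 38), (5, 54), (6, 59), (7, 101), (8, 57), (9, 67), (10, 92), (11, 93), (12, 100), (13, 37), (14, 94), (15, 95), (16, 97), (17, 99), (18, 91), (19, 53), (20, 56), (21, 55), (22, 96)]),
  (3, [(3, 100000), (4, 83), (5, 71), (6, 88), (7, 75), (8, 70), (9, 87), (10, 85), (11, 66), (12, 80), (13, 90), (14, 86), (15, 77), (16, 89), (17, 76), (18, 81), (19, 79), (20, 78), (21, 82), (22, 84)]),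
  (4, [(4, 100000), (6, 120), (7, 133), (8, 131), (9, 124), (10, 123), (11, 116), (12, 130), (13, 119), (15, 134), (16, 122), (18, 121), (19, 117), (20, 135), (21, 132), (22, 129)]),
  (7, [(7, 100000), (10, 138), (12, 137)])]

theorem wit_3_7_23 : ∃ x y z : ↥Spor.M23, orderOf x = 3 ∧ orderOf y = 7 ∧ orderOf z = 23 ∧
    x * y * z = 1 ∧ Subgroup.closure {x, y} = ⊤ :=
  gen_witness 3 7 23 (by norm_num) (by norm_num) (by norm_num) wx_3_7_23 wy_3_7_23 pr_3_7_23 lv_3_7_23
    (by decide +kernel) (by decide +kernel) (by decide +kernel) (by decide +kernel)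
    (by decide +kernel)

def wx_3_11_11 : List Bool := [true, true, true, true, true, true, true, false, true, false, true, false, true, true, false]

def wy_3_11_11 : List Bool := [true, true, true, false, true]

def pr_3_11_11 : List (ℕ × ℕ) := [(0, 0), (1, 0), (0, 1), (1, 1), (0, 3), (0, 4), (1, 4), (1, 5), (0, 6), (1, 6), (1, 7), (0, 8), (1, 8), (1, 10), (0, 11), (1, 11), (1, 12), (1, 15), (0, 19), (1, 19), (1, 2), (2, 22), (23, 23), (23, 24), (23, 25), (23, 26), (23, 27), (23, 28), (23, 29), (23, 30), (23, 31), (25, 25), (33, 33), (34, 34), (33, 35), (32, 32), (37, 37), (38, 38), (37, 39), (1, 3), (40, 41), (42, 42), (42, 23), (42, 24), (23, 44), (42, 44), (23, 45), (42, 46), (23, 47), (42, 26), (23, 49), (23, 50), (42, 50), (42, 51), (42, 53), (23, 54), (23, 55), (42, 25), (36, 59), (60, 60), (60, 42), (60, 43), (42, 62), (60, 62), (42, 63), (60, 63), (42, 64), (60, 64), (42, 65), (42, 66), (60, 66), (60, 68), (42, 69), (60, 69), (42, 70), (60, 72), (42, 73), (42, 74), (67,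 67), (80, 80), (80, 81), (70, 70), (83, 83), (83, 84), (42, 67), (82, 86), (87, 60), (60, 87), (87, 87), (87, 61), (60, 88), (87, 88), (60, 89), (60, 92), (91, 91), (96, 96), (92, 92), (98, 98), (87, 91), (99, 100), (95, 95), (60, 93), (97, 103), (104, 101), (60, 70), (85, 106), (102, 107), (101, 108), (109, 109), (109, 101), (109, 104), (109, 105), (101, 111), (104, 111), (101, 112), (104, 112), (101, 113), (104, 113), (109, 113), (104, 114), (104, 116), (109, 60), (109, 61), (60, 123), (87, 123), (109, 90), (60, 124), (109, 124), (109, 94), (87, 127), (109, 128)]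

def lv_3_11_11 : List (ℕ × List (ℕ × ℕ)) := [(0, [(0, 100000), (1, 6), (2, 15), (3, 11), (4, 17), (5, 2), (6, 20), (7, 1), (8, 14), (9, 5), (10, 19), (11, 0), (12, 12), (13, 3), (14, 21), (15, 9), (16, 18), (17, 8), (18, 7), (19, 4), (20, 13), (21, 10), (22, 16)]),
  (1, [(1, 100000), (2, 51), (3, 49), (4, 54), (5, 23), (6, 50), (7, 46), (8, 48), (9, 58), (10, 57), (11, 26), (12, 28), (13, 56), (14, 53), (15, 44), (16, 25), (17, 52), (18, 27), (19, 55), (20, 45), (21, 24), (22, 47)]),
  (2, [(2, 100000), (3, 64), (4, 79), (5, 78), (6, 74), (7, 62), (8, 76), (9, 72), (10, 66), (11, 43), (12, 69), (13, 63), (14, 71), (15, 77), (16, 75), (17, 67), (18, 68), (19, 42), (20, 70), (21, 65), (22, 73)]),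
  (3, [(3, 100000), (4, 91), (5, 132), (6, 131), (7, 123), (8, 93), (9, 89), (10, 87), (11, 88), (12, 60), (13, 124), (14, 126), (15, 94), (16, 61), (17, 128), (18, 130), (19, 90), (20, 127), (21, 125), (22, 129)]),
  (4, [(4, 100000), (6, 117), (7, 101), (8, 105), (9, 120), (10, 111), (11, 119), (12, 114), (13, 118), (15, 104), (16, 115), (18, 112), (19, 121), (20, 116), (21, 113), (22, 122)]),
  (7, [(7, 100000), (10, 109), (12, 110)])]

theorem wit_3_11_11 : ∃ x y z : ↥Spor.M23, orderOf x = 3 ∧ orderOf y = 11 ∧ orderOf z = 11 ∧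
    x * y * z = 1 ∧ Subgroup.closure {x, y} = ⊤ :=
  gen_witness 3 11 11 (by norm_num) (by norm_num) (by norm_num) wx_3_11_11 wy_3_11_11 pr_3_11_11 lv_3_11_11
    (by decide +kernel) (by decide +kernel) (by decide +kernel) (by decide +kernel)
    (by decide +kernel)

def wx_3_11_23 : List Bool := [true, true, true, true, true, true, true, false, true, false, true, false, true, true, false]

def wy_3_11_23 : List Bool := [true, false, true, true, true]

def pr_3_11_23 : List (ℕ × ℕ) := [(0, 0), (2, 2), (1, 0), (1, 1), (1, 2), (0, 4), (0, 5), (1, 5), (0, 6), (0, 7), (0, 8), (1, 8), (0, 9), (1, 9), (0, 10), (1, 11), (1, 13), (0, 14), (1, 14), (1, 15), (0, 18), (5, 5), (23, 23), (5, 24), (0, 1), (25, 26), (27, 27), (1, 4), (3, 29), (27, 30), (30, 30), (30, 31), (30, 32), (27, 33), (30, 33), (27, 34), (30, 34), (27, 35), (30, 35), (30, 36), (27, 37), (30, 37), (30, 39), (30, 40), (30, 42), (30, 44), (27, 45), (30, 45), (30, 46), (32, 32), (51, 51), (52, 52), (51, 53), (27, 31), (54, 55),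 (56, 27), (27, 56), (56, 56), (56, 28), (27, 57), (56, 57), (27, 58), (56, 58), (27, 59), (56, 59), (56, 60), (56, 61), (27, 62), (27, 64), (27, 65), (56, 66), (27, 69), (57, 57), (74, 74), (74, 75), (61, 61), (77, 77), (77, 78), (63, 63), (80, 80), (80, 81), (27, 60), (76, 83), (84, 84), (84, 85), (56, 62), (79, 87), (88, 84), (84, 88), (88, 88), (88, 85), (84, 89), (84, 91), (88, 91), (88, 86), (88, 92), (84, 93), (88, 93), (84, 98), (91, 91), (93, 93), (102, 102), (88, 89), (103, 104), (84, 90), (101, 106), (107, 105), (95, 95), (109, 109), (97, 97), (111, 111), (84, 94), (112, 113), (114, 105), (114, 107), (114, 108), (56, 63), (82, 118), (110, 119), (120, 105), (120, 107), (120, 114), (120, 108), (120, 116), (120, 89), (120, 91), (120, 95), (120, 84), (101, 129), (105, 130), (131, 131), (131, 108), (131, 115)]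

def lv_3_11_23 : List (ℕ × List (ℕ × ℕ)) := [(0, [(0, 100000), (1, 11), (2, 17), (3, 14), (4, 22), (5, 2), (6, 18), (7, 6), (8, 1), (9, 20), (10, 15), (11, 0), (12, 5), (13, 7), (14, 21), (15, 13), (16, 9), (17, 8), (18, 16), (19, 10), (20, 12), (21, 4), (22, 19)]),
  (1, [(1, 100000), (2, 47), (3, 44), (4, 37), (5, 46), (6, 35), (7, 43), (8, 39), (9, 31), (10, 40), (11, 48), (12, 38), (13, 33), (14, 49), (15, 34), (16, 42), (17, 50), (18, 36), (19, 30), (20, 41), (21, 32), (22, 45)]),
  (2, [(2, 100000), (3, 68), (4, 61), (5, 28), (6, 56), (7, 64), (8, 58), (9, 62), (10, 67), (11, 72), (12, 71), (13, 63), (14, 27), (15, 57), (16, 60), (17, 66), (18, 65), (19, 73), (20, 59), (21, 69), (22, 70)]),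
  (3, [(3, 100000), (4, 89), (5, 99), (6, 97), (7, 86), (8, 127), (9, 128), (10, 126), (11, 92), (12, 90), (13, 96), (14, 85), (15, 100), (16, 98), (17, 94), (18, 88), (19, 91), (20, 93), (21, 84), (22, 95)]),
  (4, [(4, 100000), (6, 115), (7, 105), (8, 124), (9, 123), (10, 120), (11, 133), (12, 121), (13, 116), (15, 122), (16, 107), (18, 134), (19, 108), (20, 125), (21, 117), (22, 114)]),
  (7, [(7, 100000), (10, 132), (12, 131)])]

theorem wit_3_11_23 : ∃ x y z : ↥Spor.M23, orderOf x = 3 ∧ orderOf y = 11 ∧ orderOf z = 23 ∧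
    x * y * z = 1 ∧ Subgroup.closure {x, y} = ⊤ :=
  gen_witness 3 11 23 (by norm_num) (by norm_num) (by norm_num) wx_3_11_23 wy_3_11_23 pr_3_11_23 lv_3_11_23
    (by decide +kernel) (by decide +kernel) (by decide +kernel) (by decide +kernel)
    (by decide +kernel)

def wx_3_23_23 : List Bool := [true, true, false, true, false, true, false, true, true, false, true, true, true, true, true]

def wy_3_23_23 : List Bool := [false, true, false]

def pr_3_23_23 : List (ℕ × ℕ) := [(0, 0), (1, 0), (0, 1), (1, 1), (1, 2), (1, 3), (0, 4), (1, 4), (0, 5), (0, 6), (0, 9), (1, 9), (0, 10), (1, 10), (1, 11), (1, 13), (1, 14), (0, 15), (1, 15), (1, 17), (6, 6), (22, 22), (22, 23), (23, 23), (24, 25), (0, 3), (26, 27), (28, 28), (28, 29), (28, 30), (31, 31), (32, 32), (32, 33), (1, 5), (2, 35), (34, 36), (37, 37), (37, 38), (37, 39), (37, 28), (37, 29), (28, 41), (37, 41), (28, 42), (37, 42), (37, 43), (37, 44), (28, 45), (28, 46), (28, 47), (37, 47), (28, 48), (37, 48), (37, 49), (28, 51), (37,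 51), (28, 52), (37, 56), (39, 39), (60, 60), (41, 41), (62, 62), (63, 63), (62, 64), (65, 30), (66, 37), (37, 66), (66, 66), (66, 38), (37, 67), (66, 67), (37, 68), (37, 69), (66, 69), (66, 39), (37, 70), (66, 72), (66, 73), (66, 40), (66, 78), (68, 68), (82, 82), (82, 83), (66, 68), (61, 85), (86, 86), (66, 70), (84, 88), (86, 89), (89, 89), (89, 87), (86, 90), (89, 90), (86, 91), (86, 92), (89, 92), (89, 93), (89, 95), (86, 96), (89, 98), (86, 99), (89, 99), (86, 101), (86, 104), (89, 86), (87, 106), (107, 107), (94, 94), (109, 109), (96, 96), (86, 94), (110, 112), (113, 107), (107, 113), (113, 113), (113, 108), (113, 114), (107, 115), (107, 116), (89, 94), (111, 121), (108, 122), (123, 123), (123, 107), (113, 125), (123, 115), (123, 116), (123, 117)]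

def lv_3_23_23 : List (ℕ × List (ℕ × ℕ)) := [(0, [(0, 100000), (1, 5), (2, 15), (3, 7), (4, 20), (5, 14), (6, 2), (7, 1), (8, 3), (9, 18), (10, 13), (11, 9), (12, 4), (13, 17), (14, 19), (15, 8), (16, 11), (17, 16), (18, 0), (19, 6), (20, 21), (21, 12), (22, 10)]),
  (1, [(1, 100000), (2, 47), (3, 43), (4, 46), (5, 41), (6, 58), (7, 57), (8, 51), (9, 28), (10, 29), (11, 44), (12, 52), (13, 48), (14, 53), (15, 45), (16, 59), (17, 49), (18, 55), (19, 42), (20, 56), (21, 54), (22, 50)]),
  (2, [(2, 100000), (3, 40), (4, 78), (5, 71), (6, 72), (7, 79), (8, 74), (9, 67), (10, 68), (11, 70), (12, 37), (13, 77), (14, 69), (15, 66), (16, 39), (17, 81), (18, 76), (19, 73), (20, 38), (21, 75), (22, 80)]),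
  (3, [(3, 100000), (4, 87), (5, 101), (6, 102), (7, 86), (8, 95), (9, 89), (10, 103), (11, 98), (12, 94), (13, 92), (14, 99), (15, 90), (16, 105), (17, 96), (18, 91), (19, 104), (20, 93), (21, 100), (22, 97)]),
  (4, [(4, 100000), (6, 127), (7, 117), (8, 119), (9, 126), (10, 120), (11, 108), (12, 129), (13, 128), (15, 115), (16, 113), (18, 114), (19, 125), (20, 107), (21, 118), (22, 116)]),
  (7, [(7, 100000), (10, 124), (12, 123)])]

theorem wit_3_23_23 : ∃ x y z : ↥Spor.M23, orderOf x = 3 ∧ orderOf y = 23 ∧ orderOf z = 23 ∧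
    x * y * z = 1 ∧ Subgroup.closure {x, y} = ⊤ :=
  gen_witness 3 23 23 (by norm_num) (by norm_num) (by norm_num) wx_3_23_23 wy_3_23_23 pr_3_23_23 lv_3_23_23
    (by decide +kernel) (by decide +kernel) (by decide +kernel) (by decide +kernel)
    (by decide +kernel)

end Cfsg.Agent.Helper9.Ree
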