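import Mathlib
import Cfsg.Prelude
import Cfsg.Agent.Helper9.Ree.M23Pos

set_option autoImplicit false

/-! generated: pairs of elements of prime orders generating the Mathieu group on 23 points,
as words in its two standard generators, with chains of stabilizers of the groups they generate -/

namespace Cfsg.Agent.Helper9.Ree

open Cfsg Cfsg.Agent.Helper9.Golay

def wx_5_5_5 : List Bool := [true, true, false]

def wy_5_5_5 : List Bool := [true, true, true, true, true, false, true, false, true, false, true, true]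

def pr_5_5_5 : List (ℕ × ℕ) := [(0, 0), (0, 2), (0, 3), (1, 0), (1, 2), (0, 5), (1, 5), (1, 3), (1, 6), (0, 7), (0, 8), (1, 8), (1, 9), (0, 11), (1, 11), (1, 13), (0, 14), (1, 14), (1, 16), (0, 18), (1, 19), (1, 1), (1, 23), (23, 23), (5, 5), (26, 26), (0, 6), (27, 28), (1, 29), (29, 29), (29, 23), (1, 30), (29, 30), (1, 31), (29, 24), (29, 32), (29, 33), (29, 34), (1, 35), (29, 35), (1, 39), (1, 40), (29, 40), (1, 41), (29, 42), (29, 1), (25, 47), (48, 48), (48, 49), (48, 50), (50, 50), (52, 52), (33, 33), (54, 54), (55, 55), (54, 56), (29, 31), (57, 58), (59, 48), (48, 59), (59, 59), (48, 60), (59, 60), (48, 61), (59, 61), (59, 50), (48, 63), (59, 63), (48, 64), (59, 64), (59, 51), (59, 71), (59, 72), (60, 60), (75, 75), (75, 76), (59, 49), (53, 78), (79, 79), (79, 80), (48, 62), (77, 82), (83, 79), (79, 83), (83, 83), (83, 80), (79, 84), (83, 84), (83, 85), (79, 86), (83, 86), (83, 87), (79, 88), (83, 89), (79, 90), (83, 92), (79, 95), (86, 86), (89, 89), (100, 100),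 (79, 85), (99, 102), (83, 81), (80, 104), (105, 103), (103, 105), (105, 105), (103, 106), (105, 106), (105, 107), (103, 108), (109, 109), (79, 87), (101, 114), (113, 115), (116, 116), (116, 103), (116, 105), (116, 106), (103, 118), (116, 107), (103, 119)]

def lv_5_5_5 : List (ℕ × List (ℕ × ℕ)) := [(0, [(0, 100000), (1, 14), (2, 22), (3, 2), (4, 0), (5, 12), (6, 18), (7, 8), (8, 19), (9, 3), (10, 21), (11, 7), (12, 17), (13, 11), (14, 20), (15, 15), (16, 9), (17, 6), (18, 10), (19, 5), (20, 13), (21, 4), (22, 16)]),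
  (1, [(1, 100000), (2, 23), (3, 37), (4, 29), (5, 38), (6, 46), (7, 33), (8, 1), (9, 24), (10, 44), (11, 42), (12, 36), (13, 35), (14, 43), (15, 31), (16, 32), (17, 41), (18, 45), (19, 30), (20, 34), (21, 39), (22, 40)]),
  (2, [(2, 100000), (3, 63), (4, 49), (5, 69), (6, 70), (7, 50), (8, 68), (9, 71), (10, 74), (11, 62), (12, 73), (13, 61), (14, 65), (15, 60), (16, 72), (17, 66), (18, 51), (19, 67), (20, 48), (21, 64), (22, 59)]),
  (3, [(3, 100000), (4, 86), (5, 80), (6, 97), (7, 88), (8, 85), (9, 96), (10, 91), (11, 87), (12, 89), (13, 93), (14, 94), (15, 92), (16, 90), (17, 84), (18, 83), (19, 79), (20, 98), (21, 81), (22, 95)]),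
  (4, [(4, 100000), (6, 109), (7, 105), (8, 112), (9, 120), (10, 119), (11, 110), (12, 108), (13, 118), (15, 123), (16, 103), (18, 111), (19, 107), (20, 122), (21, 106), (22, 121)]),
  (7, [(7, 100000), (10, 116), (12, 117)])]

theorem wit_5_5_5 : ∃ x y z : ↥Spor.M23, orderOf x = 5 ∧ orderOf y = 5 ∧ orderOf z = 5 ∧
    x * y * z = 1 ∧ Subgroup.closure {x, y} = ⊤ :=
  gen_witness 5 5 5 (by norm_num) (by norm_num) (by norm_num) wx_5_5_5 wy_5_5_5 pr_5_5_5 lv_5_5_5
    (by decide +kernel) (by decide +kernel) (by decide +kernel) (by decide +kernel)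
    (by decide +kernel)

def wx_5_5_7 : List Bool := [true, true, false]

def wy_5_5_7 : List Bool := [true, false, true, true, false, true, true, false, true]

def pr_5_5_7 : List (ℕ × ℕ) := [(0, 0), (0, 2), (1, 0), (0, 1), (1, 1), (1, 2), (0, 4), (1, 6), (0, 7), (1, 7), (0, 8), (1, 8), (0, 10), (1, 10), (1, 11), (0, 13), (0, 14), (1, 14), (0, 16), (1, 16), (4, 4), (22, 22), (22, 23), (8, 8), (25, 25), (25, 26), (26, 26), (28, 28), (27, 29), (1, 4), (30, 31), (32, 32), (32, 33), (33, 33), (33, 35), (0, 5), (24, 37), (38, 32), (32, 38), (38, 38), (38, 33), (38, 39), (32, 40), (38, 41), (38, 34), (32, 42), (38, 42), (38, 44), (32, 45), (38, 45), (32, 46), (38, 46), (32, 47), (32, 48), (41, 41), (56, 56), (41, 57), (32, 39), (58, 59), (60, 60), (60, 61), (60, 62), (60, 63), (61, 61), (61, 65), (38, 40), (36, 67), (68, 60), (60, 68), (68, 68), (68, 61), (60, 70), (68, 62), (68, 72), (60, 73), (68, 73), (68, 63), (68, 75), (60, 76), (68, 77), (68, 80), (72, 72), (83, 83),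 (60, 69), (84, 85), (86, 86), (68, 69), (66, 88), (89, 86), (86, 89), (89, 87), (89, 91), (90, 90), (90, 94), (86, 90), (95, 96), (97, 97), (68, 70), (99, 86), (99, 89), (86, 99), (89, 99), (99, 99), (99, 87), (86, 100), (89, 100), (99, 100), (86, 102), (86, 103), (89, 106), (101, 101), (112, 112), (113, 92), (114, 97), (97, 114), (114, 98), (114, 116), (97, 117), (99, 90), (89, 120), (121, 97), (121, 114), (121, 115), (97, 122), (97, 123), (114, 126), (97, 121), (123, 128), (129, 129)]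

def lv_5_5_7 : List (ℕ × List (ℕ × ℕ)) := [(0, [(0, 100000), (1, 20), (2, 11), (3, 2), (4, 0), (5, 6), (6, 13), (7, 18), (8, 21), (9, 3), (10, 17), (11, 12), (12, 15), (13, 1), (14, 19), (15, 5), (16, 10), (17, 4), (18, 14), (19, 8), (20, 7), (21, 9), (22, 16)]),
  (1, [(1, 100000), (2, 50), (3, 32), (4, 40), (5, 44), (6, 55), (7, 52), (8, 53), (9, 46), (10, 38), (11, 43), (12, 39), (13, 49), (14, 51), (15, 34), (16, 42), (17, 47), (18, 41), (19, 33), (20, 48), (21, 54), (22, 45)]),
  (2, [(2, 100000), (3, 79), (4, 62), (5, 82), (6, 69), (7, 70), (8, 74), (9, 73), (10, 71), (11, 63), (12, 64), (13, 68), (14, 77), (15, 81), (16, 75), (17, 61), (18, 80), (19, 72), (20, 76), (21, 78), (22, 60)]),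
  (3, [(3, 100000), (4, 91), (5, 87), (6, 102), (7, 107), (8, 99), (9, 104), (10, 108), (11, 111), (12, 105), (13, 101), (14, 86), (15, 109), (16, 89), (17, 93), (18, 100), (19, 103), (20, 110), (21, 106), (22, 90)]),
  (4, [(4, 100000), (6, 121), (7, 116), (8, 125), (9, 114), (10, 117), (11, 118), (12, 123), (13, 97), (15, 115), (16, 127), (18, 124), (19, 122), (20, 126), (21, 119), (22, 98)]),
  (7, [(7, 100000), (10, 130), (12, 129)])]

theorem wit_5_5_7 : ∃ x y z : ↥Spor.M23, orderOf x = 5 ∧ orderOf y = 5 ∧ orderOf z = 7 ∧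
    x * y * z = 1 ∧ Subgroup.closure {x, y} = ⊤ :=
  gen_witness 5 5 7 (by norm_num) (by norm_num) (by norm_num) wx_5_5_7 wy_5_5_7 pr_5_5_7 lv_5_5_7
    (by decide +kernel) (by decide +kernel) (by decide +kernel) (by decide +kernel)
    (by decide +kernel)

def wx_5_5_11 : List Bool := [true, true, false]

def wy_5_5_11 : List Bool := [false, true, true, false, true, true]

def pr_5_5_11 : List (ℕ × ℕ) := [(0, 0), (0, 2), (0, 3), (1, 0), (1, 2), (1, 5), (1, 3), (1, 6), (0, 7), (1, 7), (0, 8), (1, 8), (0, 9), (1, 9), (0, 10), (1, 10), (1, 13), (0, 14), (0, 15), (0, 16), (1, 17), (1, 1), (1, 23), (1, 24), (5, 5), (26, 26), (27, 27), (26, 28), (0, 5), (29, 30), (31, 1), (31, 31), (31, 23), (1, 32), (31, 32), (1, 33), (31, 34), (1, 35), (31, 35), (31, 25), (1, 38), (31, 38), (1, 39), (1, 40), (1, 41), (1, 44), (33, 33), (1, 31), (48, 49), (50, 50), (50, 51), (50, 52), (37, 37), (54, 54), (54, 55), (31, 33), (56, 57), (50, 58), (58, 58), (50, 59), (58, 59), (50, 60), (50, 61),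 (58, 61), (50, 62), (58, 62), (50, 63), (50, 64), (50, 65), (50, 66), (58, 66), (50, 67), (50, 68), (50, 70), (58, 71), (50, 72), (63, 63), (63, 78), (58, 60), (79, 80), (81, 81), (81, 50), (81, 51), (50, 83), (81, 83), (81, 52), (50, 84), (81, 84), (81, 85), (50, 86), (50, 87), (81, 87), (81, 88), (81, 90), (81, 91), (50, 95), (87, 87), (98, 98), (88, 88), (100, 100), (50, 85), (99, 102), (103, 81), (81, 103), (103, 103), (103, 82), (103, 104), (81, 53), (101, 109), (110, 103), (103, 110), (81, 111), (103, 111), (110, 111), (81, 112), (110, 81), (117, 117)]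

def lv_5_5_11 : List (ℕ × List (ℕ × ℕ)) := [(0, [(0, 100000), (1, 10), (2, 22), (3, 2), (4, 0), (5, 9), (6, 16), (7, 20), (8, 11), (9, 3), (10, 21), (11, 18), (12, 5), (13, 8), (14, 6), (15, 12), (16, 19), (17, 13), (18, 15), (19, 17), (20, 14), (21, 4), (22, 7)]),
  (1, [(1, 100000), (2, 23), (3, 40), (4, 33), (5, 41), (6, 31), (7, 24), (8, 38), (9, 39), (10, 34), (11, 32), (12, 37), (13, 44), (14, 45), (15, 35), (16, 43), (17, 47), (18, 46), (19, 1), (20, 42), (21, 25), (22, 36)]),
  (2, [(2, 100000), (3, 65), (4, 71), (5, 62), (6, 66), (7, 70), (8, 60), (9, 73), (10, 77), (11, 72), (12, 69), (13, 76), (14, 68), (15, 63), (16, 75), (17, 59), (18, 67), (19, 61), (20, 58), (21, 74), (22, 64)]),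
  (3, [(3, 100000), (4, 89), (5, 95), (6, 97), (7, 50), (8, 96), (9, 53), (10, 91), (11, 86), (12, 88), (13, 92), (14, 85), (15, 83), (16, 51), (17, 90), (18, 52), (19, 94), (20, 93), (21, 87), (22, 84)]),
  (4, [(4, 100000), (6, 104), (7, 107), (8, 113), (9, 105), (10, 111), (11, 106), (12, 108), (13, 110), (15, 114), (16, 81), (18, 115), (19, 103), (20, 116), (21, 112), (22, 82)]),
  (7, [(7, 100000), (10, 118), (12, 117)])]

theorem wit_5_5_11 : ∃ x y z : ↥Spor.M23, orderOf x = 5 ∧ orderOf y = 5 ∧ orderOf z = 11 ∧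
    x * y * z = 1 ∧ Subgroup.closure {x, y} = ⊤ :=
  gen_witness 5 5 11 (by norm_num) (by norm_num) (by norm_num) wx_5_5_11 wy_5_5_11 pr_5_5_11 lv_5_5_11
    (by decide +kernel) (by decide +kernel) (by decide +kernel) (by decide +kernel)
    (by decide +kernel)

def wx_5_5_23 : List Bool := [true, true, false]

def wy_5_5_23 : List Bool := [false, true, true]

def pr_5_5_23 : List (ℕ × ℕ) := [(0, 0), (0, 2), (0, 3), (1, 0), (1, 2), (1, 5), (1, 3), (0, 6), (1, 6), (1, 7), (1, 4), (0, 8), (0, 9), (1, 9), (0, 10), (1, 10), (1, 12), (0, 13), (0, 18), (0, 19), (0, 20), (1, 1), (1, 23), (5, 5), (25, 25), (25, 26), (26, 26), (28, 28), (27, 29), (0, 5), (30, 31), (32, 1), (32, 32), (32, 23), (1, 33), (1, 35), (1, 36), (34, 34), (1, 32), (39, 40), (41, 41), (41, 42), (41, 43), (36, 36), (36, 45), (45, 45), (46, 47), (32, 33), (48, 49), (50, 41), (41, 50), (50, 50), (50, 42), (41, 52), (50, 43), (52, 52), (52, 57), (50, 51), (58, 59), (60, 60), (61, 61), (56, 56), (41, 54), (63,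 64), (65, 60), (65, 61), (60, 67), (60, 65), (65, 69), (70, 70), (7, 7), (72, 72), (73, 73), (72, 74), (0, 7), (75, 76), (39, 77), (78, 41), (50, 78), (78, 78), (41, 79), (78, 79), (78, 52), (41, 80), (50, 80), (78, 82), (78, 1), (78, 32), (78, 33), (1, 88), (32, 88), (78, 88), (78, 34), (32, 89), (78, 89), (78, 92), (32, 93), (79, 79), (99, 99), (99, 100), (101, 53), (102, 60), (102, 65), (65, 102), (102, 61), (102, 66), (65, 103), (102, 103), (60, 104), (65, 104), (60, 105), (60, 107), (60, 108), (102, 102), (104, 104), (104, 116), (60, 102), (117, 118), (119, 70), (70, 119), (119, 71), (70, 120), (70, 121), (62, 115), (125, 70), (125, 119), (70, 125), (119, 125), (125, 125), (125, 71), (70, 130), (130, 130), (133, 122), (134, 134)]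

def lv_5_5_23 : List (ℕ × List (ℕ × ℕ)) := [(0, [(0, 100000), (1, 18), (2, 12), (3, 2), (4, 0), (5, 14), (6, 20), (7, 9), (8, 5), (9, 3), (10, 22), (11, 8), (12, 7), (13, 13), (14, 10), (15, 19), (16, 17), (17, 21), (18, 6), (19, 15), (20, 11), (21, 4), (22, 16)]),
  (1, [(1, 100000), (2, 92), (3, 91), (4, 95), (5, 88), (6, 32), (7, 1), (8, 96), (9, 38), (10, 89), (11, 35), (12, 97), (13, 37), (14, 94), (15, 33), (16, 34), (17, 36), (18, 90), (19, 23), (20, 98), (21, 24), (22, 93)]),
  (2, [(2, 100000), (3, 42), (4, 84), (5, 44), (6, 82), (7, 55), (8, 80), (9, 81), (10, 87), (11, 52), (12, 78), (13, 56), (14, 41), (15, 51), (16, 83), (17, 43), (18, 54), (19, 50), (20, 85), (21, 79), (22, 86)]),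
  (3, [(3, 100000), (4, 112), (5, 60), (6, 65), (7, 68), (8, 111), (9, 107), (10, 104), (11, 106), (12, 102), (13, 113), (14, 109), (15, 108), (16, 114), (17, 61), (18, 103), (19, 67), (20, 105), (21, 66), (22, 110)]),
  (4, [(4, 100000), (6, 119), (7, 127), (8, 125), (9, 130), (10, 70), (11, 120), (12, 71), (13, 123), (15, 131), (16, 126), (18, 132), (19, 124), (20, 129), (21, 121), (22, 128)]),
  (7, [(7, 100000), (10, 135), (12, 134)])]

theorem wit_5_5_23 : ∃ x y z : ↥Spor.M23, orderOf x = 5 ∧ orderOf y = 5 ∧ orderOf z = 23 ∧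
    x * y * z = 1 ∧ Subgroup.closure {x, y} = ⊤ :=
  gen_witness 5 5 23 (by norm_num) (by norm_num) (by norm_num) wx_5_5_23 wy_5_5_23 pr_5_5_23 lv_5_5_23
    (by decide +kernel) (by decide +kernel) (by decide +kernel) (by decide +kernel)
    (by decide +kernel)

def wx_5_7_7 : List Bool := [true, true, false]

def wy_5_7_7 : List Bool := [true, true, true, true, false, true, false, true]

def pr_5_7_7 : List (ℕ × ℕ) := [(0, 0), (0, 2), (0, 3), (2, 2), (1, 0), (0, 1), (1, 1), (0, 6), (1, 6), (0, 7), (1, 7), (1, 3), (1, 10), (1, 11), (1, 12), (0, 13), (1, 13), (0, 14), (0, 15), (0, 16), (1, 16), (6, 6), (23, 23), (23, 24), (1, 2), (5, 26), (27, 27), (27, 28), (28, 28), (28, 30), (0, 8), (25, 32), (33, 27), (27, 33), (33, 33), (33, 28), (33, 34), (27, 35), (27, 36), (33, 36), (27, 37), (33, 37), (33, 38), (33, 39), (27, 40), (27, 41), (33, 41), (33, 44), (33, 46), (36, 36), (36, 51), (27, 34), (52, 53), (54, 54), (54, 55), (54, 56), (54, 57), (33, 35), (31, 59), (60, 54),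 (54, 60), (60, 60), (60, 55), (54, 63), (60, 56), (54, 64), (60, 64), (54, 65), (54, 66), (54, 67), (60, 67), (54, 68), (54, 73), (62, 62), (62, 75), (63, 63), (64, 64), (78, 78), (78, 79), (54, 61), (77, 81), (60, 61), (76, 83), (82, 84), (85, 82), (54, 62), (80, 87), (88, 82), (82, 88), (85, 88), (88, 88), (88, 86), (88, 89), (85, 90), (88, 90), (82, 91), (88, 91), (88, 92), (88, 93), (82, 94), (85, 94), (88, 97), (85, 100), (89, 89), (105, 105), (93, 93), (82, 89), (106, 108), (109, 85), (85, 89), (107, 111), (112, 109), (85, 112), (109, 112), (112, 110), (85, 113), (109, 113), (112, 113), (109, 114), (112, 115), (109, 116), (109, 117), (112, 85), (124, 124)]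

def lv_5_7_7 : List (ℕ × List (ℕ × ℕ)) := [(0, [(0, 100000), (1, 7), (2, 10), (3, 2), (4, 0), (5, 15), (6, 11), (7, 21), (8, 12), (9, 3), (10, 14), (11, 8), (12, 18), (13, 6), (14, 19), (15, 9), (16, 22), (17, 13), (18, 16), (19, 17), (20, 20), (21, 4), (22, 1)]),
  (1, [(1, 100000), (2, 29), (3, 50), (4, 48), (5, 47), (6, 41), (7, 45), (8, 42), (9, 44), (10, 27), (11, 39), (12, 40), (13, 36), (14, 37), (15, 49), (16, 34), (17, 38), (18, 33), (19, 28), (20, 43), (21, 35), (22, 46)]),
  (2, [(2, 100000), (3, 72), (4, 73), (5, 65), (6, 64), (7, 71), (8, 57), (9, 54), (10, 56), (11, 61), (12, 67), (13, 74), (14, 55), (15, 69), (16, 63), (17, 66), (18, 58), (19, 68), (20, 70), (21, 62), (22, 60)]),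
  (3, [(3, 100000), (4, 99), (5, 103), (6, 96), (7, 91), (8, 86), (9, 82), (10, 94), (11, 89), (12, 100), (13, 88), (14, 101), (15, 93), (16, 97), (17, 92), (18, 102), (19, 90), (20, 104), (21, 98), (22, 95)]),
  (4, [(4, 100000), (6, 113), (7, 122), (8, 114), (9, 112), (10, 109), (11, 118), (12, 116), (13, 119), (15, 123), (16, 117), (18, 110), (19, 120), (20, 121), (21, 85), (22, 115)]),
  (7, [(7, 100000), (10, 124), (12, 125)])]

theorem wit_5_7_7 : ∃ x y z : ↥Spor.M23, orderOf x = 5 ∧ orderOf y = 7 ∧ orderOf z = 7 ∧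
    x * y * z = 1 ∧ Subgroup.closure {x, y} = ⊤ :=
  gen_witness 5 7 7 (by norm_num) (by norm_num) (by norm_num) wx_5_7_7 wy_5_7_7 pr_5_7_7 lv_5_7_7
    (by decide +kernel) (by decide +kernel) (by decide +kernel) (by decide +kernel)
    (by decide +kernel)

def wx_5_7_11 : List Bool := [true, true, false]

def wy_5_7_11 : List Bool := [false, true, false, true]

def pr_5_7_11 : List (ℕ × ℕ) := [(0, 0), (0, 2), (1, 0), (0, 1), (1, 1), (0, 4), (1, 4), (0, 5), (1, 6), (1, 7), (0, 8), (1, 9), (0, 10), (1, 10), (1, 11), (0, 12), (0, 13), (0, 15), (0, 16), (1, 17), (0, 20), (4, 4), (23, 23), (24, 24), (23, 25), (26, 3), (27, 27), (27, 28), (27, 29), (27, 30), (27, 31), (27, 32), (27, 33), (27, 34), (27, 35), (29, 29), (37, 37), (38, 38), (37, 39), (36, 36), (41, 41), (42, 42), (41, 43), (1, 2), (44, 45), (46, 46), (46, 47), (46, 27), (27, 49), (46, 49), (46, 29), (27, 50), (46, 50), (27, 51), (46, 30), (27, 53), (27, 54), (46, 54), (27, 56), (46, 57), (46, 59), (27, 60), (48,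 48), (64, 64), (46, 28), (40, 66), (67, 46), (46, 67), (67, 67), (67, 47), (46, 69), (67, 69), (46, 70), (67, 70), (46, 72), (67, 72), (46, 74), (67, 74), (46, 76), (67, 76), (67, 77), (67, 80), (69, 69), (69, 84), (46, 68), (86, 86), (67, 68), (85, 88), (89, 87), (87, 89), (89, 89), (87, 90), (89, 90), (89, 91), (87, 92), (89, 86), (86, 97), (93, 93), (97, 97), (67, 48), (65, 101), (102, 86), (86, 102), (89, 102), (102, 97), (86, 103), (89, 103), (86, 104), (89, 104), (102, 104), (86, 105), (89, 105), (89, 108), (86, 109), (89, 109), (102, 112), (102, 102), (100, 118), (99, 119), (120, 120), (120, 87), (120, 89), (120, 90), (87, 122), (120, 91), (87, 123)]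

def lv_5_7_11 : List (ℕ × List (ℕ × ℕ)) := [(0, [(0, 100000), (1, 19), (2, 11), (3, 2), (4, 0), (5, 9), (6, 16), (7, 5), (8, 21), (9, 4), (10, 20), (11, 18), (12, 6), (13, 8), (14, 22), (15, 12), (16, 14), (17, 17), (18, 1), (19, 13), (20, 10), (21, 7), (22, 15)]),
  (1, [(1, 100000), (2, 49), (3, 31), (4, 32), (5, 51), (6, 57), (7, 60), (8, 27), (9, 50), (10, 63), (11, 62), (12, 54), (13, 56), (14, 59), (15, 28), (16, 58), (17, 30), (18, 52), (19, 29), (20, 61), (21, 55), (22, 53)]),
  (2, [(2, 100000), (3, 79), (4, 80), (5, 46), (6, 69), (7, 67), (8, 68), (9, 77), (10, 83), (11, 75), (12, 71), (13, 70), (14, 73), (15, 74), (16, 76), (17, 81), (18, 82), (19, 78), (20, 72), (21, 47), (22, 48)]),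
  (3, [(3, 100000), (4, 103), (5, 97), (6, 108), (7, 116), (8, 112), (9, 115), (10, 110), (11, 117), (12, 113), (13, 109), (14, 98), (15, 107), (16, 106), (17, 86), (18, 114), (19, 111), (20, 104), (21, 105), (22, 102)]),
  (4, [(4, 100000), (6, 89), (7, 93), (8, 94), (9, 126), (10, 127), (11, 96), (12, 95), (13, 122), (15, 123), (16, 87), (18, 92), (19, 90), (20, 124), (21, 91), (22, 125)]),
  (7, [(7, 100000), (10, 120), (12, 121)])]

theorem wit_5_7_11 : ∃ x y z : ↥Spor.M23, orderOf x = 5 ∧ orderOf y = 7 ∧ orderOf z = 11 ∧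
    x * y * z = 1 ∧ Subgroup.closure {x, y} = ⊤ :=
  gen_witness 5 7 11 (by norm_num) (by norm_num) (by norm_num) wx_5_7_11 wy_5_7_11 pr_5_7_11 lv_5_7_11
    (by decide +kernel) (by decide +kernel) (by decide +kernel) (by decide +kernel)
    (by decide +kernel)

def wx_5_7_23 : List Bool := [true, true, false]

def wy_5_7_23 : List Bool := [true, true, true, true, true, true, false, true, false]

def pr_5_7_23 : List (ℕ × ℕ) := [(0, 0), (0, 2), (0, 3), (2, 2), (5, 5), (1, 0), (0, 1), (1, 2), (0, 7), (1, 7), (0, 8), (1, 8), (1, 3), (0, 10), (1, 10), (1, 12), (0, 13), (1, 13), (1, 4), (0, 14), (1, 16), (0, 22), (1, 1), (6, 24), (25, 25), (25, 26), (26, 26), (28, 28), (29, 29), (28, 30), (9, 9), (32, 32), (9, 33), (33, 33), (34, 35), (0, 9), (36, 37), (38, 25), (25, 38), (38, 38), (25, 39), (38, 39), (25, 40), (25, 41), (38, 41), (25, 43), (38, 43), (25, 44), (25, 47), (38, 47), (25, 49), (38, 49), (25, 50), (25, 51), (38, 26), (31, 56), (57, 57), (57, 58), (57, 59), (58,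 58), (61, 61), (38, 40), (62, 63), (64, 64), (64, 65), (64, 66), (64, 57), (64, 58), (57, 68), (64, 68), (64, 59), (57, 69), (64, 69), (57, 70), (64, 70), (64, 72), (57, 73), (57, 74), (57, 75), (57, 77), (57, 78), (64, 79), (65, 65), (66, 66), (85, 85), (68, 68), (68, 87), (57, 71), (88, 89), (90, 64), (64, 90), (64, 91), (64, 92), (90, 92), (90, 66), (64, 93), (90, 93), (90, 94), (64, 95), (90, 67), (64, 96), (64, 97), (90, 98), (90, 90), (92, 92), (106, 105), (107, 107), (90, 65), (86, 109), (110, 107), (107, 110), (110, 110), (110, 108), (110, 111), (107, 112), (107, 113), (114, 114), (90, 91), (84, 119), (118, 120), (121, 121), (121, 110), (121, 108), (121, 111), (107, 123), (121, 117)]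

def lv_5_7_23 : List (ℕ × List (ℕ × ℕ)) := [(0, [(0, 100000), (1, 18), (2, 11), (3, 2), (4, 0), (5, 20), (6, 7), (7, 23), (8, 19), (9, 3), (10, 10), (11, 17), (12, 9), (13, 1), (14, 15), (15, 8), (16, 21), (17, 12), (18, 22), (19, 16), (20, 14), (21, 4), (22, 13)]),
  (1, [(1, 100000), (2, 43), (3, 45), (4, 27), (5, 49), (6, 53), (7, 54), (8, 50), (9, 41), (10, 52), (11, 42), (12, 40), (13, 38), (14, 25), (15, 47), (16, 51), (17, 44), (18, 46), (19, 55), (20, 48), (21, 39), (22, 26)]),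
  (2, [(2, 100000), (3, 72), (4, 70), (5, 76), (6, 81), (7, 60), (8, 75), (9, 73), (10, 82), (11, 80), (12, 58), (13, 68), (14, 71), (15, 57), (16, 59), (17, 83), (18, 77), (19, 69), (20, 74), (21, 78), (22, 79)]),
  (3, [(3, 100000), (4, 103), (5, 101), (6, 93), (7, 65), (8, 94), (9, 66), (10, 97), (11, 91), (12, 99), (13, 90), (14, 92), (15, 102), (16, 67), (17, 100), (18, 64), (19, 104), (20, 98), (21, 96), (22, 95)]),
  (4, [(4, 100000), (6, 111), (7, 107), (8, 113), (9, 110), (10, 124), (11, 126), (12, 108), (13, 117), (15, 112), (16, 127), (18, 125), (19, 115), (20, 116), (21, 123), (22, 114)]),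
  (7, [(7, 100000), (10, 122), (12, 121)])]

theorem wit_5_7_23 : ∃ x y z : ↥Spor.M23, orderOf x = 5 ∧ orderOf y = 7 ∧ orderOf z = 23 ∧
    x * y * z = 1 ∧ Subgroup.closure {x, y} = ⊤ :=
  gen_witness 5 7 23 (by norm_num) (by norm_num) (by norm_num) wx_5_7_23 wy_5_7_23 pr_5_7_23 lv_5_7_23
    (by decide +kernel) (by decide +kernel) (by decide +kernel) (by decide +kernel)
    (by decide +kernel)

def wx_5_11_11 : List Bool := [true, true, false]

def wy_5_11_11 : List Bool := [true, true, true, true, false]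

def pr_5_11_11 : List (ℕ × ℕ) := [(0, 0), (0, 2), (0, 3), (1, 0), (0, 1), (1, 1), (1, 2), (0, 5), (1, 5), (0, 6), (1, 6), (0, 8), (1, 8), (1, 9), (0, 10), (1, 4), (1, 13), (1, 14), (0, 15), (1, 16), (7, 7), (22, 22), (23, 23), (22, 24), (12, 12), (26, 26), (0, 7), (25, 28), (29, 29), (29, 30), (29, 31), (1, 3), (33, 29), (33, 30), (29, 34), (33, 31), (29, 35), (29, 36), (33, 39), (36, 36), (41, 41), (41, 42), (37, 37), (44, 44), (44, 45), (33, 36), (43, 47), (48, 33), (33, 49), (49, 49), (51, 51), (33, 48), (48, 53), (29, 37), (46, 55), (56, 33), (56, 48), (48, 56), (56, 56), (56, 49), (33, 57), (56, 57), (60, 60), (33, 56), (64, 65), (66, 54), (64, 64), (48, 57), (68, 69), (70, 70), (54, 70), (71, 72), (73, 54), (73, 66), (66, 70), (71, 76), (77, 54), (77, 66), (77, 73), (77, 74), (77, 75), (0, 9), (27, 83), (46, 84), (52, 85), (86, 70), (54, 86), (66, 86), (70, 86), (86, 71), (70, 87), (70, 88), (86, 88), (86, 89), (54, 90), (66, 90), (70, 90), (66, 91), (86, 91), (54,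 92), (66, 92), (86, 33), (86, 48), (86, 56), (86, 49), (56, 103), (86, 58), (48, 104), (86, 105), (86, 50), (86, 31), (86, 36), (86, 32), (86, 37), (33, 112), (86, 112), (86, 38), (86, 115), (86, 116), (29, 118), (86, 86), (71, 122), (78, 123), (124, 124), (124, 54), (124, 66), (73, 126)]

def lv_5_11_11 : List (ℕ × List (ℕ × ℕ)) := [(0, [(0, 100000), (1, 16), (2, 17), (3, 2), (4, 0), (5, 5), (6, 1), (7, 20), (8, 21), (9, 3), (10, 6), (11, 8), (12, 7), (13, 13), (14, 11), (15, 14), (16, 12), (17, 18), (18, 15), (19, 19), (20, 9), (21, 4), (22, 10)]),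
  (1, [(1, 100000), (2, 35), (3, 34), (4, 30), (5, 113), (6, 29), (7, 115), (8, 117), (9, 32), (10, 38), (11, 39), (12, 31), (13, 121), (14, 37), (15, 114), (16, 116), (17, 119), (18, 120), (19, 36), (20, 118), (21, 40), (22, 112)]),
  (2, [(2, 100000), (3, 109), (4, 33), (5, 105), (6, 110), (7, 49), (8, 63), (9, 58), (10, 111), (11, 57), (12, 103), (13, 104), (14, 59), (15, 108), (16, 61), (17, 106), (18, 48), (19, 56), (20, 50), (21, 62), (22, 107)]),
  (3, [(3, 100000), (4, 95), (5, 70), (6, 87), (7, 91), (8, 89), (9, 102), (10, 96), (11, 88), (12, 99), (13, 90), (14, 71), (15, 101), (16, 94), (17, 100), (18, 98), (19, 86), (20, 97), (21, 93), (22, 92)]),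
  (4, [(4, 100000), (6, 78), (7, 74), (8, 77), (9, 82), (10, 66), (11, 126), (12, 127), (13, 67), (15, 81), (16, 128), (18, 73), (19, 79), (20, 54), (21, 75), (22, 80)]),
  (7, [(7, 100000), (10, 124), (12, 125)])]

theorem wit_5_11_11 : ∃ x y z : ↥Spor.M23, orderOf x = 5 ∧ orderOf y = 11 ∧ orderOf z = 11 ∧
    x * y * z = 1 ∧ Subgroup.closure {x, y} = ⊤ :=
  gen_witness 5 11 11 (by norm_num) (by norm_num) (by norm_num) wx_5_11_11 wy_5_11_11 pr_5_11_11 lv_5_11_11
    (by decide +kernel) (by decide +kernel) (by decide +kernel) (by decide +kernel)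
    (by decide +kernel)

def wx_5_11_23 : List Bool := [true, true, false]

def wy_5_11_23 : List Bool := [false, true, true, true, true]

def pr_5_11_23 : List (ℕ × ℕ) := [(0, 0), (0, 2), (0, 3), (2, 2), (5, 5), (1, 0), (1, 1), (0, 7), (1, 7), (0, 8), (1, 8), (1, 3), (0, 9), (1, 9), (1, 10), (0, 11), (1, 11), (0, 13), (1, 13), (1, 17), (1, 21), (1, 22), (7, 7), (24, 24), (24, 25), (25, 25), (27, 27), (26, 28), (0, 1), (29, 30), (31, 31), (1, 2), (6, 33), (34, 31), (31, 34), (34, 34), (34, 32), (31, 35), (34, 35), (31, 36), (34, 36), (31, 37), (34, 37), (34, 38), (31, 39), (34, 39), (31, 40), (34, 40), (34, 45), (31, 47), (34, 51), (37, 37), (53, 53), (36, 36), (55, 55), (54, 54), (53, 57), (31, 38), (58, 59), (60, 60), (60, 61), (60, 62), (60, 63), (61, 61), (65, 65), (65, 66), (62, 62), (68, 68), (68, 69), (34, 41), (56, 71), (72, 60), (60, 72), (72, 72), (60, 73), (60, 74), (72, 74), (60, 75), (72, 75), (72, 62), (60, 76), (60, 78), (72, 78), (72, 63), (72, 83), (72,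 61), (70, 87), (88, 88), (88, 89), (88, 90), (90, 90), (92, 92), (72, 73), (67, 94), (93, 95), (96, 96), (96, 88), (96, 89), (88, 98), (96, 98), (96, 90), (88, 99), (88, 100), (88, 101), (88, 102), (96, 102), (88, 103), (96, 104), (96, 105), (96, 108), (88, 111), (102, 102), (113, 113), (103, 103), (115, 115), (96, 99), (116, 117), (118, 118), (118, 96), (88, 104), (114, 121), (122, 96), (96, 122), (118, 122), (122, 122), (122, 97), (122, 120), (96, 123), (118, 123), (122, 123), (118, 124), (96, 125)]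

def lv_5_11_23 : List (ℕ × List (ℕ × ℕ)) := [(0, [(0, 100000), (1, 1), (2, 22), (3, 2), (4, 0), (5, 17), (6, 7), (7, 11), (8, 23), (9, 3), (10, 9), (11, 18), (12, 10), (13, 13), (14, 14), (15, 19), (16, 16), (17, 20), (18, 8), (19, 21), (20, 15), (21, 4), (22, 12)]),
  (1, [(1, 100000), (2, 50), (3, 36), (4, 39), (5, 43), (6, 32), (7, 34), (8, 46), (9, 42), (10, 40), (11, 52), (12, 48), (13, 41), (14, 31), (15, 45), (16, 49), (17, 51), (18, 38), (19, 47), (20, 35), (21, 37), (22, 44)]),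
  (2, [(2, 100000), (3, 72), (4, 84), (5, 77), (6, 81), (7, 83), (8, 79), (9, 60), (10, 78), (11, 63), (12, 76), (13, 62), (14, 80), (15, 64), (16, 61), (17, 75), (18, 86), (19, 73), (20, 82), (21, 85), (22, 74)]),
  (3, [(3, 100000), (4, 107), (5, 108), (6, 103), (7, 102), (8, 98), (9, 104), (10, 90), (11, 88), (12, 112), (13, 100), (14, 111), (15, 110), (16, 89), (17, 106), (18, 101), (19, 109), (20, 99), (21, 91), (22, 105)]),
  (4, [(4, 100000), (6, 125), (7, 97), (8, 131), (9, 129), (10, 96), (11, 124), (12, 120), (13, 123), (15, 126), (16, 133), (18, 122), (19, 132), (20, 128), (21, 127), (22, 130)]),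
  (7, [(7, 100000), (10, 118), (12, 119)])]

theorem wit_5_11_23 : ∃ x y z : ↥Spor.M23, orderOf x = 5 ∧ orderOf y = 11 ∧ orderOf z = 23 ∧
    x * y * z = 1 ∧ Subgroup.closure {x, y} = ⊤ :=
  gen_witness 5 11 23 (by norm_num) (by norm_num) (by norm_num) wx_5_11_23 wy_5_11_23 pr_5_11_23 lv_5_11_23
    (by decide +kernel) (by decide +kernel) (by decide +kernel) (by decide +kernel)
    (by decide +kernel)

def wx_5_23_23 : List Bool := [true, true, false, true, true, false]

def wy_5_23_23 : List Bool := [true, true, true, true]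

def pr_5_23_23 : List (ℕ × ℕ) := [(0, 0), (0, 2), (1, 0), (0, 1), (1, 1), (1, 2), (0, 4), (1, 4), (1, 5), (1, 6), (1, 7), (0, 8), (1, 8), (0, 9), (0, 10), (1, 11), (0, 12), (1, 12), (0, 13), (1, 13), (0, 15), (6, 6), (6, 23), (23, 23), (25, 25), (24, 26), (23, 25), (26, 26), (28, 29), (27, 3), (31, 31), (31, 32), (32, 32), (34, 34), (33, 33), (36, 36), (7, 7), (38, 38), (0, 6), (30, 40), (41, 31), (31, 41), (41, 41), (41, 32), (31, 43), (31, 44), (41, 45), (41, 46), (44, 44), (50, 50), (31, 42), (51, 52), (53, 53), (53, 54), (54, 54), (56, 56), (41, 42), (35, 58), (57, 59), (60, 53), (60, 54), (61, 61), (63, 63), (64, 55), (60, 65), (66, 66), (66, 60), (60, 68), (41, 43), (37, 70), (71, 53), (53, 71), (71, 71), (71, 54), (53, 72), (60, 72), (71, 72), (71, 62), (53, 76), (60, 71), (74, 81), (82, 60), (66, 82), (60, 84), (0, 7), (39, 86), (37, 87), (57, 88), (82, 89), (90, 66), (66, 90), (90, 67), (66, 91), (66, 94), (90, 82), (90, 83), (90, 84), (66, 96), (66, 97), (90,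 85), (66, 98), (66, 99), (82, 99), (90, 99), (66, 101), (66, 102), (90, 73), (90, 76), (90, 78), (53, 108), (90, 80), (53, 110), (90, 41), (90, 32), (90, 44), (90, 33), (90, 45), (31, 115), (41, 116), (41, 118), (31, 121), (94, 94), (90, 60), (60, 124), (125, 66), (125, 90), (66, 125), (125, 67), (90, 128), (125, 128), (125, 91), (123, 132), (133, 133)]

def lv_5_23_23 : List (ℕ × List (ℕ × ℕ)) := [(0, [(0, 100000), (1, 14), (2, 7), (3, 0), (4, 1), (5, 20), (6, 12), (7, 4), (8, 6), (9, 5), (10, 19), (11, 9), (12, 11), (13, 10), (14, 18), (15, 15), (16, 17), (17, 16), (18, 13), (19, 22), (20, 8), (21, 2), (22, 21)]),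
  (1, [(1, 100000), (2, 31), (3, 47), (4, 122), (5, 49), (6, 45), (7, 114), (8, 121), (9, 115), (10, 117), (11, 46), (12, 120), (13, 43), (14, 42), (15, 41), (16, 48), (17, 119), (18, 44), (19, 33), (20, 118), (21, 32), (22, 116)]),
  (2, [(2, 100000), (3, 54), (4, 113), (5, 62), (6, 76), (7, 77), (8, 111), (9, 71), (10, 108), (11, 75), (12, 112), (13, 79), (14, 53), (15, 74), (16, 80), (17, 61), (18, 78), (19, 73), (20, 109), (21, 72), (22, 110)]),
  (3, [(3, 100000), (4, 106), (5, 60), (6, 84), (7, 83), (8, 107), (9, 96), (10, 101), (11, 104), (12, 105), (13, 100), (14, 68), (15, 97), (16, 99), (17, 69), (18, 103), (19, 85), (20, 98), (21, 82), (22, 102)]),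
  (4, [(4, 100000), (6, 129), (7, 130), (8, 90), (9, 95), (10, 67), (11, 125), (12, 66), (13, 127), (15, 128), (16, 91), (18, 94), (19, 93), (20, 92), (21, 131), (22, 126)]),
  (7, [(7, 100000), (10, 134), (12, 133)])]

theorem wit_5_23_23 : ∃ x y z : ↥Spor.M23, orderOf x = 5 ∧ orderOf y = 23 ∧ orderOf z = 23 ∧
    x * y * z = 1 ∧ Subgroup.closure {x, y} = ⊤ :=
  gen_witness 5 23 23 (by norm_num) (by norm_num) (by norm_num) wx_5_23_23 wy_5_23_23 pr_5_23_23 lv_5_23_23
    (by decide +kernel) (by decide +kernel) (by decide +kernel) (by decide +kernel)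
    (by decide +kernel)

end Cfsg.Agent.Helper9.Ree
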