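import Mathlib
import Cfsg.Prelude
import Cfsg.Agent.Helper9.Ree.M23Pos

set_option autoImplicit false

/-! generated: pairs of elements of prime orders generating the Mathieu group on 23 points,
as words in its two standard generators, with chains of stabilizers of the groups they generate -/

namespace Cfsg.Agent.Helper9.Ree

open Cfsg Cfsg.Agent.Helper9.Golay

def wx_7_7_7 : List Bool := [true, false, true, false]

def wy_7_7_7 : List Bool := [true, true, true, false, true, false, true, true]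

def pr_7_7_7 : List (ℕ × ℕ) := [(0, 0), (0, 2), (0, 3), (0, 4), (1, 0), (0, 1), (1, 1), (1, 2), (0, 6), (1, 6), (0, 7), (1, 7), (0, 8), (1, 8), (1, 3), (1, 9), (0, 12), (1, 13), (0, 14), (0, 18), (13, 13), (22, 22), (22, 23), (23, 23), (25, 25), (24, 26), (16, 16), (28, 28), (28, 29), (29, 29), (30, 31), (0, 9), (27, 33), (34, 34), (34, 35), (34, 36), (0, 10), (32, 38), (39, 39), (39, 40), (39, 41), (39, 42), (39, 34), (39, 35), (39, 44), (39, 36), (39, 45), (39, 46), (34, 47), (39, 47), (34, 48), (39, 48), (34, 49), (39, 49), (39, 50), (39, 51), (39, 52), (34, 53), (39, 53), (39, 55), (40, 40), (40, 62), (42, 42), (64, 64), (64, 65), (45, 45), (45, 67), (34, 44), (69, 69), (69, 70), (69, 39), (69, 40), (63, 73), (69, 74), (74, 69), (71, 76), (75, 75), (74, 70), (78, 79), (80, 77), (68, 37), (66, 82), (83, 69), (83, 74), (69, 83), (74, 83), (83, 83), (83, 70), (83, 85), (69, 86), (74, 86), (83, 86), (83, 87), (69, 88), (74, 88), (83, 89), (83, 39), (83, 40), (83, 72), (39,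 98), (69, 98), (39, 99), (69, 99), (83, 99), (39, 100), (83, 100), (39, 102), (83, 102), (83, 104), (39, 105), (84, 84), (112, 112), (113, 75), (114, 80), (77, 114), (80, 114), (114, 114), (114, 81), (77, 115), (80, 115), (80, 116), (80, 118), (80, 119), (80, 120), (114, 77), (80, 126), (127, 127)]

def lv_7_7_7 : List (ℕ × List (ℕ × ℕ)) := [(0, [(0, 100000), (1, 3), (2, 7), (3, 13), (4, 2), (5, 12), (6, 14), (7, 1), (8, 0), (9, 16), (10, 18), (11, 11), (12, 19), (13, 5), (14, 21), (15, 15), (16, 6), (17, 8), (18, 10), (19, 4), (20, 20), (21, 17), (22, 9)]),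
  (1, [(1, 100000), (2, 49), (3, 46), (4, 55), (5, 45), (6, 60), (7, 52), (8, 58), (9, 50), (10, 53), (11, 44), (12, 56), (13, 51), (14, 61), (15, 54), (16, 59), (17, 47), (18, 34), (19, 35), (20, 36), (21, 57), (22, 48)]),
  (2, [(2, 100000), (3, 72), (4, 39), (5, 107), (6, 106), (7, 110), (8, 98), (9, 103), (10, 100), (11, 43), (12, 102), (13, 111), (14, 40), (15, 99), (16, 41), (17, 105), (18, 42), (19, 101), (20, 108), (21, 104), (22, 109)]),
  (3, [(3, 100000), (4, 71), (5, 88), (6, 93), (7, 94), (8, 96), (9, 91), (10, 83), (11, 74), (12, 90), (13, 85), (14, 70), (15, 89), (16, 69), (17, 97), (18, 84), (19, 86), (20, 92), (21, 87), (22, 95)]),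
  (4, [(4, 100000), (6, 122), (7, 123), (8, 125), (9, 118), (10, 116), (11, 80), (12, 115), (13, 120), (15, 117), (16, 81), (18, 77), (19, 119), (20, 124), (21, 114), (22, 121)]),
  (7, [(7, 100000), (10, 128), (12, 127)])]

theorem wit_7_7_7 : ∃ x y z : ↥Spor.M23, orderOf x = 7 ∧ orderOf y = 7 ∧ orderOf z = 7 ∧
    x * y * z = 1 ∧ Subgroup.closure {x, y} = ⊤ :=
  gen_witness 7 7 7 (by norm_num) (by norm_num) (by norm_num) wx_7_7_7 wy_7_7_7 pr_7_7_7 lv_7_7_7
    (by decide +kernel) (by decide +kernel) (by decide +kernel) (by decide +kernel)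
    (by decide +kernel)

def wx_7_7_11 : List Bool := [true, false, true, false]

def wy_7_7_11 : List Bool := [true, true, true, true, false, true, false, true]

def pr_7_7_11 : List (ℕ × ℕ) := [(0, 0), (0, 2), (0, 3), (2, 2), (5, 5), (5, 6), (1, 0), (0, 1), (1, 1), (1, 2), (0, 8), (1, 8), (0, 9), (1, 10), (0, 11), (1, 11), (1, 12), (1, 16), (0, 17), (1, 17), (1, 18), (0, 19), (0, 21), (10, 10), (25, 25), (25, 26), (1, 9), (7, 28), (29, 29), (29, 30), (29, 31), (30, 30), (0, 10), (27, 34), (29, 35), (35, 35), (29, 36), (35, 36), (35, 37), (29, 38), (35, 38), (29, 39), (29, 40), (35, 40), (35, 41), (35, 42), (35, 43), (29, 44), (29, 45), (29, 46), (29, 47), (35, 48), (35, 49), (29, 51), (37, 37), (37, 56), (29, 37), (57, 58), (59, 29), (29, 59), (59, 59), (59, 30), (59, 60), (29, 61), (29, 62), (59, 31), (29, 63), (59, 64), (29, 65), (29, 67), (59, 69), (59, 70), (59, 71), (62, 62), (75, 75), (75, 76), (29, 60), (77, 78), (79, 79), (59, 61), (33, 81), (79, 82), (82, 82), (79,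 83), (82, 83), (79, 84), (82, 84), (82, 85), (79, 86), (79, 87), (82, 87), (82, 88), (79, 89), (82, 90), (82, 92), (82, 94), (79, 96), (82, 96), (82, 99), (85, 85), (85, 101), (86, 86), (103, 103), (82, 86), (102, 105), (106, 79), (79, 106), (106, 106), (106, 80), (106, 107), (79, 108), (79, 109), (109, 109), (79, 88), (104, 115), (114, 116), (117, 117), (117, 79), (106, 119), (117, 108), (117, 109), (117, 110)]

def lv_7_7_11 : List (ℕ × List (ℕ × ℕ)) := [(0, [(0, 100000), (1, 3), (2, 17), (3, 9), (4, 2), (5, 20), (6, 19), (7, 14), (8, 0), (9, 12), (10, 21), (11, 10), (12, 22), (13, 11), (14, 24), (15, 15), (16, 13), (17, 18), (18, 8), (19, 4), (20, 23), (21, 16), (22, 1)]),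
  (1, [(1, 100000), (2, 52), (3, 49), (4, 43), (5, 38), (6, 36), (7, 47), (8, 51), (9, 55), (10, 50), (11, 54), (12, 39), (13, 53), (14, 42), (15, 45), (16, 40), (17, 46), (18, 35), (19, 44), (20, 41), (21, 48), (22, 37)]),
  (2, [(2, 100000), (3, 74), (4, 60), (5, 70), (6, 65), (7, 32), (8, 30), (9, 31), (10, 66), (11, 63), (12, 68), (13, 73), (14, 67), (15, 62), (16, 71), (17, 29), (18, 61), (19, 72), (20, 69), (21, 64), (22, 59)]),
  (3, [(3, 100000), (4, 87), (5, 94), (6, 86), (7, 90), (8, 91), (9, 84), (10, 99), (11, 97), (12, 82), (13, 93), (14, 92), (15, 83), (16, 95), (17, 89), (18, 96), (19, 88), (20, 98), (21, 100), (22, 85)]),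
  (4, [(4, 100000), (6, 106), (7, 108), (8, 79), (9, 80), (10, 121), (11, 111), (12, 107), (13, 123), (15, 109), (16, 110), (18, 122), (19, 112), (20, 120), (21, 119), (22, 113)]),
  (7, [(7, 100000), (10, 117), (12, 118)])]

theorem wit_7_7_11 : ∃ x y z : ↥Spor.M23, orderOf x = 7 ∧ orderOf y = 7 ∧ orderOf z = 11 ∧
    x * y * z = 1 ∧ Subgroup.closure {x, y} = ⊤ :=
  gen_witness 7 7 11 (by norm_num) (by norm_num) (by norm_num) wx_7_7_11 wy_7_7_11 pr_7_7_11 lv_7_7_11
    (by decide +kernel) (by decide +kernel) (by decide +kernel) (by decide +kernel)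
    (by decide +kernel)

def wx_7_7_23 : List Bool := [true, false, true, false]

def wy_7_7_23 : List Bool := [false, true, true, true, true, true, false, true]

def pr_7_7_23 : List (ℕ × ℕ) := [(0, 0), (0, 2), (2, 2), (4, 4), (4, 5), (0, 1), (1, 1), (1, 2), (0, 7), (0, 8), (1, 8), (1, 3), (0, 9), (1, 9), (0, 12), (1, 12), (1, 13), (0, 15), (1, 15), (1, 18), (0, 19), (1, 21), (0, 22), (1, 0), (6, 25), (26, 26), (26, 27), (26, 28), (26, 29), (27, 27), (31, 31), (31, 32), (1, 7), (33, 34), (35, 35), (35, 36), (35, 37), (35, 38), (35, 26), (35, 27), (26, 40), (35, 40), (35, 28), (26, 41), (35, 41), (26, 42), (35, 42), (35, 29), (26, 44), (35, 44), (35, 45), (26, 47), (35, 49), (35, 52), (36, 36), (56, 56), (56, 57), (38, 38), (59, 59), (59, 60), (48, 48), (62, 62), (62, 63), (26, 43), (64, 65), (61, 66), (67, 67), (67, 68), (67, 35), (67, 36), (35, 70), (67, 70), (67, 37), (35, 71), (35, 72), (67, 72), (35, 73), (67, 38), (35, 74), (35, 75), (67, 76), (35, 77), (67, 77), (67,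 71), (58, 85), (86, 67), (86, 68), (68, 88), (89, 86), (78, 78), (91, 91), (67, 73), (92, 93), (67, 94), (86, 94), (94, 94), (94, 68), (94, 87), (86, 95), (94, 95), (67, 96), (67, 97), (94, 97), (94, 69), (94, 98), (86, 99), (94, 99), (94, 67), (109, 86), (86, 109), (89, 109), (109, 109), (109, 90), (86, 110), (109, 110), (109, 112), (86, 113), (86, 114), (86, 117), (109, 89), (90, 121), (122, 122)]

def lv_7_7_23 : List (ℕ × List (ℕ × ℕ)) := [(0, [(0, 100000), (1, 3), (2, 9), (3, 24), (4, 2), (5, 14), (6, 16), (7, 21), (8, 0), (9, 8), (10, 15), (11, 23), (12, 17), (13, 7), (14, 19), (15, 11), (16, 20), (17, 12), (18, 13), (19, 1), (20, 18), (21, 10), (22, 22)]),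
  (1, [(1, 100000), (2, 49), (3, 53), (4, 46), (5, 51), (6, 43), (7, 30), (8, 47), (9, 50), (10, 45), (11, 55), (12, 29), (13, 42), (14, 54), (15, 28), (16, 26), (17, 27), (18, 44), (19, 40), (20, 41), (21, 52), (22, 48)]),
  (2, [(2, 100000), (3, 39), (4, 74), (5, 76), (6, 81), (7, 79), (8, 38), (9, 80), (10, 82), (11, 83), (12, 84), (13, 36), (14, 35), (15, 70), (16, 71), (17, 73), (18, 72), (19, 75), (20, 78), (21, 77), (22, 37)]),
  (3, [(3, 100000), (4, 94), (5, 68), (6, 106), (7, 101), (8, 104), (9, 67), (10, 69), (11, 107), (12, 103), (13, 98), (14, 102), (15, 100), (16, 87), (17, 105), (18, 108), (19, 99), (20, 96), (21, 97), (22, 95)]),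
  (4, [(4, 100000), (6, 116), (7, 109), (8, 112), (9, 115), (10, 113), (11, 117), (12, 119), (13, 118), (15, 89), (16, 110), (18, 111), (19, 120), (20, 86), (21, 114), (22, 90)]),
  (7, [(7, 100000), (10, 123), (12, 122)])]

theorem wit_7_7_23 : ∃ x y z : ↥Spor.M23, orderOf x = 7 ∧ orderOf y = 7 ∧ orderOf z = 23 ∧
    x * y * z = 1 ∧ Subgroup.closure {x, y} = ⊤ :=
  gen_witness 7 7 23 (by norm_num) (by norm_num) (by norm_num) wx_7_7_23 wy_7_7_23 pr_7_7_23 lv_7_7_23
    (by decide +kernel) (by decide +kernel) (by decide +kernel) (by decide +kernel)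
    (by decide +kernel)

def wx_7_11_11 : List Bool := [true, false, true, false]

def wy_7_11_11 : List Bool := [true, true, true, true, false]

def pr_7_11_11 : List (ℕ × ℕ) := [(0, 0), (0, 2), (0, 3), (0, 4), (0, 5), (1, 0), (0, 1), (1, 1), (1, 2), (0, 7), (1, 7), (1, 8), (1, 10), (0, 13), (0, 14), (0, 15), (1, 5), (0, 16), (1, 16), (1, 6), (9, 9), (22, 22), (23, 23), (22, 24), (12, 12), (26, 26), (12, 27), (27, 27), (28, 29), (0, 8), (30, 31), (32, 32), (32, 33), (0, 9), (25, 35), (36, 32), (32, 36), (36, 36), (32, 37), (36, 37), (32, 39), (36, 39), (36, 40), (32, 41), (36, 41), (32, 42), (32, 43), (36, 43), (32, 44), (32, 45), (36, 47), (32, 51), (32, 53), (37, 37), (55, 55), (56, 56), (55, 57), (58, 34), (59, 59), (59, 60), (36, 33), (62, 59), (59, 62), (62, 62), (62, 60), (59, 63), (62, 63), (59, 65), (62, 65), (62, 61), (59, 66), (62, 66), (62, 67), (59, 68), (62, 69), (59, 70), (62, 74), (65, 65), (65, 79), (59, 64), (80, 81), (62, 64), (82, 83), (83, 84), (59, 67),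 (68, 86), (87, 83), (82, 87), (83, 87), (87, 84), (82, 88), (87, 88), (83, 89), (87, 89), (82, 90), (82, 91), (83, 91), (82, 93), (82, 95), (83, 95), (87, 96), (87, 97), (87, 87), (88, 88), (105, 105), (89, 89), (107, 104), (82, 108), (108, 82), (110, 110), (106, 85), (112, 82), (112, 108), (108, 112), (112, 112), (82, 113), (108, 113), (108, 115), (82, 116), (108, 116), (108, 118), (82, 119)]

def lv_7_11_11 : List (ℕ × List (ℕ × ℕ)) := [(0, [(0, 100000), (1, 3), (2, 21), (3, 16), (4, 2), (5, 10), (6, 1), (7, 19), (8, 0), (9, 15), (10, 7), (11, 20), (12, 9), (13, 5), (14, 11), (15, 17), (16, 12), (17, 18), (18, 13), (19, 4), (20, 8), (21, 6), (22, 14)]),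
  (1, [(1, 100000), (2, 33), (3, 48), (4, 39), (5, 43), (6, 36), (7, 49), (8, 52), (9, 50), (10, 47), (11, 37), (12, 32), (13, 46), (14, 44), (15, 41), (16, 51), (17, 42), (18, 40), (19, 45), (20, 53), (21, 38), (22, 54)]),
  (2, [(2, 100000), (3, 74), (4, 69), (5, 75), (6, 77), (7, 66), (8, 76), (9, 60), (10, 78), (11, 70), (12, 59), (13, 72), (14, 62), (15, 63), (16, 61), (17, 73), (18, 65), (19, 67), (20, 68), (21, 64), (22, 71)]),
  (3, [(3, 100000), (4, 100), (5, 102), (6, 90), (7, 99), (8, 91), (9, 101), (10, 97), (11, 89), (12, 83), (13, 96), (14, 98), (15, 84), (16, 93), (17, 94), (18, 103), (19, 95), (20, 87), (21, 88), (22, 92)]),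
  (4, [(4, 100000), (6, 117), (7, 122), (8, 112), (9, 123), (10, 114), (11, 109), (12, 115), (13, 113), (15, 118), (16, 121), (18, 119), (19, 82), (20, 108), (21, 116), (22, 120)]),
  (7, [(7, 100000), (10, 110), (12, 111)])]

theorem wit_7_11_11 : ∃ x y z : ↥Spor.M23, orderOf x = 7 ∧ orderOf y = 11 ∧ orderOf z = 11 ∧
    x * y * z = 1 ∧ Subgroup.closure {x, y} = ⊤ :=
  gen_witness 7 11 11 (by norm_num) (by norm_num) (by norm_num) wx_7_11_11 wy_7_11_11 pr_7_11_11 lv_7_11_11
    (by decide +kernel) (by decide +kernel) (by decide +kernel) (by decide +kernel)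
    (by decide +kernel)

def wx_7_11_23 : List Bool := [true, false, true, false]

def wy_7_11_23 : List Bool := [true, true, true, false, true, true, false, true]

def pr_7_11_23 : List (ℕ × ℕ) := [(0, 0), (0, 2), (1, 0), (1, 1), (1, 2), (0, 4), (1, 4), (0, 5), (1, 5), (0, 6), (0, 8), (1, 8), (0, 10), (1, 10), (0, 11), (1, 12), (0, 13), (1, 13), (1, 14), (0, 19), (1, 19), (5, 5), (23, 23), (5, 24), (4, 4), (26, 26), (26, 27), (27, 27), (29, 29), (28, 30), (0, 1), (25, 32), (33, 33), (33, 34), (33, 35), (33, 36), (33, 37), (34, 34), (39, 39), (39, 40), (31, 3), (42, 33), (42, 42), (42, 34), (33, 43), (33, 44), (42, 44), (33, 45), (33, 46), (42, 47), (42, 48), (42, 36), (33, 52), (42, 52), (42, 38), (43, 43), (57, 57), (57, 58), (33, 42), (59, 60), (61, 61), (61, 62), (61, 63), (62, 62), (62, 65), (42, 43), (41, 67), (68, 61), (61, 68), (68, 68), (68, 62), (61, 69), (61, 70), (68, 70), (61, 71), (61, 72), (68, 72), (61, 73), (61, 74), (61, 75), (68, 75), (61, 78), (68, 71), (73,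 73), (85, 85), (85, 86), (68, 69), (66, 88), (76, 76), (90, 90), (91, 84), (92, 89), (89, 92), (92, 92), (94, 95), (68, 63), (87, 97), (98, 89), (98, 92), (92, 98), (98, 93), (89, 99), (92, 99), (98, 99), (89, 100), (98, 101), (98, 102), (98, 103), (98, 106), (92, 107), (89, 109), (98, 98), (98, 113), (89, 98), (114, 115), (116, 96), (101, 101), (118, 113), (119, 96), (119, 116), (96, 119), (116, 119), (96, 120), (116, 120), (119, 120), (96, 121), (116, 122), (119, 122), (119, 123), (119, 119), (117, 131), (132, 132)]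

def lv_7_11_23 : List (ℕ × List (ℕ × ℕ)) := [(0, [(0, 100000), (1, 4), (2, 10), (3, 8), (4, 2), (5, 14), (6, 11), (7, 12), (8, 0), (9, 17), (10, 13), (11, 1), (12, 22), (13, 5), (14, 18), (15, 20), (16, 19), (17, 6), (18, 21), (19, 7), (20, 16), (21, 9), (22, 15)]),
  (1, [(1, 100000), (2, 38), (3, 36), (4, 47), (5, 44), (6, 53), (7, 48), (8, 54), (9, 45), (10, 46), (11, 51), (12, 50), (13, 34), (14, 43), (15, 49), (16, 56), (17, 42), (18, 37), (19, 55), (20, 35), (21, 33), (22, 52)]),
  (2, [(2, 100000), (3, 69), (4, 82), (5, 76), (6, 74), (7, 80), (8, 77), (9, 79), (10, 83), (11, 63), (12, 68), (13, 70), (14, 78), (15, 62), (16, 81), (17, 64), (18, 61), (19, 75), (20, 72), (21, 73), (22, 71)]),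
  (3, [(3, 100000), (4, 109), (5, 101), (6, 93), (7, 107), (8, 105), (9, 94), (10, 99), (11, 89), (12, 104), (13, 100), (14, 102), (15, 106), (16, 103), (17, 111), (18, 110), (19, 98), (20, 112), (21, 108), (22, 92)]),
  (4, [(4, 100000), (6, 129), (7, 96), (8, 128), (9, 117), (10, 127), (11, 116), (12, 121), (13, 122), (15, 123), (16, 130), (18, 124), (19, 125), (20, 120), (21, 119), (22, 126)]),
  (7, [(7, 100000), (10, 132), (12, 133)])]

theorem wit_7_11_23 : ∃ x y z : ↥Spor.M23, orderOf x = 7 ∧ orderOf y = 11 ∧ orderOf z = 23 ∧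
    x * y * z = 1 ∧ Subgroup.closure {x, y} = ⊤ :=
  gen_witness 7 11 23 (by norm_num) (by norm_num) (by norm_num) wx_7_11_23 wy_7_11_23 pr_7_11_23 lv_7_11_23
    (by decide +kernel) (by decide +kernel) (by decide +kernel) (by decide +kernel)
    (by decide +kernel)

def wx_7_23_23 : List Bool := [true, false, true, true, true, true, true, true, false]

def wy_7_23_23 : List Bool := [true]

def pr_7_23_23 : List (ℕ × ℕ) := [(0, 0), (0, 2), (0, 3), (0, 4), (1, 0), (0, 1), (1, 1), (1, 2), (0, 6), (1, 6), (0, 7), (1, 7), (1, 8), (1, 3), (0, 10), (1, 10), (0, 12), (1, 14), (1, 15), (1, 19), (8, 8), (22, 22), (23, 23), (22, 23), (24, 24), (25, 26), (11, 11), (28, 28), (11, 29), (29, 29), (30, 31), (0, 8), (32, 33), (34, 34), (35, 35), (34, 36), (36, 36), (0, 9), (27, 39), (40, 34), (34, 40), (40, 40), (34, 41), (40, 41), (34, 42), (34, 43), (40, 43), (34, 44), (40, 44), (34, 45), (34, 46), (40, 46), (40, 47), (34, 48), (40, 51), (40, 53), (34, 54), (40, 54), (44, 44), (44, 60), (40,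 42), (37, 62), (63, 35), (35, 63), (35, 64), (35, 65), (35, 66), (63, 63), (65, 65), (65, 70), (36, 69), (63, 36), (38, 73), (74, 72), (75, 75), (75, 76), (40, 45), (61, 78), (79, 74), (72, 79), (72, 80), (79, 35), (79, 63), (35, 83), (63, 83), (35, 84), (63, 84), (35, 85), (63, 85), (79, 85), (35, 87), (63, 87), (35, 88), (79, 72), (77, 95), (96, 96), (97, 97), (80, 80), (79, 36), (71, 100), (99, 101), (102, 96), (96, 102), (102, 97), (96, 103), (96, 104), (102, 104), (96, 105), (96, 106), (102, 74), (102, 79), (102, 75), (72, 111), (74, 111), (79, 111), (74, 112), (79, 112), (74, 113), (79, 113), (74, 114), (79, 114), (102, 72), (72, 123), (124, 102), (96, 125), (96, 126), (124, 96), (98, 128), (129, 129)]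

def lv_7_23_23 : List (ℕ × List (ℕ × ℕ)) := [(0, [(0, 100000), (1, 1), (2, 8), (3, 14), (4, 19), (5, 21), (6, 18), (7, 0), (8, 6), (9, 11), (10, 12), (11, 10), (12, 17), (13, 7), (14, 13), (15, 3), (16, 15), (17, 20), (18, 16), (19, 5), (20, 2), (21, 9), (22, 4)]),
  (1, [(1, 100000), (2, 55), (3, 51), (4, 57), (5, 50), (6, 48), (7, 46), (8, 59), (9, 43), (10, 41), (11, 54), (12, 49), (13, 42), (14, 58), (15, 52), (16, 40), (17, 45), (18, 34), (19, 47), (20, 44), (21, 53), (22, 56)]),
  (2, [(2, 100000), (3, 86), (4, 92), (5, 35), (6, 83), (7, 65), (8, 84), (9, 67), (10, 94), (11, 89), (12, 93), (13, 68), (14, 36), (15, 64), (16, 63), (17, 91), (18, 90), (19, 66), (20, 88), (21, 85), (22, 87)]),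
  (3, [(3, 100000), (4, 111), (5, 80), (6, 74), (7, 81), (8, 120), (9, 117), (10, 121), (11, 116), (12, 118), (13, 112), (14, 82), (15, 119), (16, 113), (17, 72), (18, 122), (19, 79), (20, 115), (21, 75), (22, 114)]),
  (4, [(4, 100000), (6, 102), (7, 107), (8, 105), (9, 127), (10, 103), (11, 96), (12, 126), (13, 125), (15, 109), (16, 108), (18, 110), (19, 124), (20, 97), (21, 104), (22, 106)]),
  (7, [(7, 100000), (10, 130), (12, 129)])]

theorem wit_7_23_23 : ∃ x y z : ↥Spor.M23, orderOf x = 7 ∧ orderOf y = 23 ∧ orderOf z = 23 ∧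
    x * y * z = 1 ∧ Subgroup.closure {x, y} = ⊤ :=
  gen_witness 7 23 23 (by norm_num) (by norm_num) (by norm_num) wx_7_23_23 wy_7_23_23 pr_7_23_23 lv_7_23_23
    (by decide +kernel) (by decide +kernel) (by decide +kernel) (by decide +kernel)
    (by decide +kernel)

def wx_11_11_11 : List Bool := [true, true, true, true, false]

def wy_11_11_11 : List Bool := [true, false, true, true, true]

def pr_11_11_11 : List (ℕ × ℕ) := [(0, 0), (0, 2), (0, 3), (2, 2), (5, 5), (6, 6), (5, 7), (1, 0), (0, 1), (1, 2), (0, 9), (1, 9), (0, 12), (1, 12), (0, 13), (1, 4), (0, 16), (1, 16), (0, 17), (1, 17), (1, 19), (0, 21), (1, 22), (0, 23), (1, 1), (8, 26), (27, 27), (27, 28), (11, 11), (30, 30), (30, 31), (31, 31), (32, 33), (0, 10), (34, 35), (36, 27), (27, 36), (36, 36), (36, 28), (27, 37), (36, 37), (27, 38), (36, 39), (36, 29), (27, 41), (27, 42), (27, 43), (36, 43), (27, 44), (27, 46), (36, 47), (36, 49), (38, 38), (54, 54), (54, 55), (36, 38), (56, 57), (58, 58), (58, 59), (27, 39),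 (61, 58), (58, 61), (61, 61), (61, 59), (58, 62), (61, 62), (58, 63), (61, 64), (58, 65), (61, 65), (58, 66), (61, 66), (58, 67), (58, 68), (61, 68), (61, 71), (62, 62), (78, 78), (78, 79), (68, 68), (81, 81), (61, 63), (82, 83), (84, 84), (84, 85), (84, 86), (85, 85), (58, 64), (80, 89), (90, 84), (84, 90), (90, 90), (90, 85), (84, 91), (90, 92), (90, 93), (90, 86), (90, 96), (84, 98), (90, 98), (84, 99), (90, 99), (90, 100), (91, 91), (105, 105), (90, 91), (88, 107), (84, 92), (93, 109), (110, 108), (108, 110), (110, 110), (108, 111), (110, 111), (110, 112), (108, 113), (113, 113), (84, 93), (106, 119), (118, 120), (121, 121), (121, 108), (121, 110), (121, 111), (108, 123), (121, 112), (108, 124)]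

def lv_11_11_11 : List (ℕ × List (ℕ × ℕ)) := [(0, [(0, 100000), (1, 4), (2, 17), (3, 13), (4, 20), (5, 22), (6, 0), (7, 24), (8, 1), (9, 14), (10, 10), (11, 16), (12, 2), (13, 23), (14, 3), (15, 18), (16, 11), (17, 25), (18, 12), (19, 21), (20, 9), (21, 19), (22, 15)]),
  (1, [(1, 100000), (2, 28), (3, 38), (4, 53), (5, 50), (6, 44), (7, 41), (8, 49), (9, 52), (10, 42), (11, 27), (12, 39), (13, 36), (14, 51), (15, 40), (16, 47), (17, 48), (18, 29), (19, 46), (20, 45), (21, 37), (22, 43)]),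
  (2, [(2, 100000), (3, 63), (4, 66), (5, 58), (6, 70), (7, 71), (8, 77), (9, 69), (10, 62), (11, 61), (12, 72), (13, 73), (14, 65), (15, 74), (16, 64), (17, 60), (18, 59), (19, 75), (20, 67), (21, 76), (22, 68)]),
  (3, [(3, 100000), (4, 101), (5, 98), (6, 95), (7, 96), (8, 104), (9, 94), (10, 99), (11, 91), (12, 84), (13, 90), (14, 102), (15, 87), (16, 97), (17, 93), (18, 100), (19, 103), (20, 92), (21, 85), (22, 86)]),
  (4, [(4, 100000), (6, 114), (7, 111), (8, 115), (9, 127), (10, 125), (11, 113), (12, 117), (13, 126), (15, 128), (16, 123), (18, 116), (19, 110), (20, 124), (21, 112), (22, 108)]),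
  (7, [(7, 100000), (10, 121), (12, 122)])]

theorem wit_11_11_11 : ∃ x y z : ↥Spor.M23, orderOf x = 11 ∧ orderOf y = 11 ∧ orderOf z = 11 ∧
    x * y * z = 1 ∧ Subgroup.closure {x, y} = ⊤ :=
  gen_witness 11 11 11 (by norm_num) (by norm_num) (by norm_num) wx_11_11_11 wy_11_11_11 pr_11_11_11 lv_11_11_11
    (by decide +kernel) (by decide +kernel) (by decide +kernel) (by decide +kernel)
    (by decide +kernel)

def wx_11_11_23 : List Bool := [true, true, true, true, false]

def wy_11_11_23 : List Bool := [true, true, false, true, true]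

def pr_11_11_23 : List (ℕ × ℕ) := [(0, 0), (0, 2), (0, 3), (3, 3), (5, 5), (6, 6), (5, 7), (1, 0), (0, 1), (1, 1), (1, 2), (0, 9), (0, 10), (0, 11), (1, 11), (1, 3), (0, 13), (0, 15), (1, 4), (1, 18), (0, 19), (1, 20), (1, 21), (0, 23), (13, 13), (26, 26), (26, 27), (1, 9), (8, 29), (30, 30), (30, 31), (30, 32), (32, 32), (34, 34), (1, 10), (28, 36), (37, 30), (30, 37), (37, 37), (37, 31), (37, 38), (30, 39), (37, 39), (30, 40), (37, 32), (30, 42), (30, 43), (37, 44), (37, 33), (30, 46), (30, 47), (30, 49), (40, 40), (30, 38), (54, 55), (56, 56), (56, 57), (56, 58), (37, 40), (35, 60), (61, 61), (61, 62), (61, 56), (61, 57), (56, 64), (61, 64), (61, 65), (56, 66), (56, 67), (56, 68), (61, 68), (61, 69), (56, 70), (61, 71), (61, 72), (56, 73), (61, 74), (56, 75), (61, 77), (62, 62), (65, 65), (82, 82), (83, 59), (84, 61), (61, 84), (84, 84), (84, 62), (61, 85), (84, 85), (61, 86), (61, 87), (84, 87), (84, 88), (84, 92), (61, 94), (84, 94), (61, 95), (84, 95), (61, 96), (85,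 85), (101, 101), (102, 63), (103, 103), (91, 91), (84, 86), (81, 106), (107, 103), (103, 107), (107, 107), (107, 104), (107, 108), (103, 109), (103, 110), (84, 89), (105, 115), (109, 116), (117, 117), (117, 103), (107, 119), (117, 109), (117, 110), (117, 111)]

def lv_11_11_23 : List (ℕ × List (ℕ × ℕ)) := [(0, [(0, 100000), (1, 4), (2, 1), (3, 11), (4, 10), (5, 14), (6, 0), (7, 21), (8, 9), (9, 20), (10, 13), (11, 15), (12, 2), (13, 23), (14, 3), (15, 19), (16, 18), (17, 25), (18, 17), (19, 22), (20, 16), (21, 24), (22, 12)]),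
  (1, [(1, 100000), (2, 49), (3, 44), (4, 42), (5, 32), (6, 40), (7, 37), (8, 52), (9, 53), (10, 30), (11, 48), (12, 33), (13, 51), (14, 43), (15, 46), (16, 41), (17, 39), (18, 45), (19, 31), (20, 50), (21, 47), (22, 38)]),
  (2, [(2, 100000), (3, 65), (4, 72), (5, 67), (6, 74), (7, 69), (8, 76), (9, 57), (10, 64), (11, 79), (12, 56), (13, 78), (14, 75), (15, 71), (16, 66), (17, 80), (18, 70), (19, 58), (20, 77), (21, 68), (22, 73)]),
  (3, [(3, 100000), (4, 62), (5, 97), (6, 90), (7, 92), (8, 85), (9, 89), (10, 98), (11, 96), (12, 95), (13, 94), (14, 87), (15, 91), (16, 93), (17, 88), (18, 86), (19, 99), (20, 100), (21, 61), (22, 84)]),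
  (4, [(4, 100000), (6, 114), (7, 109), (8, 113), (9, 112), (10, 121), (11, 104), (12, 108), (13, 122), (15, 111), (16, 110), (18, 123), (19, 103), (20, 119), (21, 120), (22, 107)]),
  (7, [(7, 100000), (10, 117), (12, 118)])]

theorem wit_11_11_23 : ∃ x y z : ↥Spor.M23, orderOf x = 11 ∧ orderOf y = 11 ∧ orderOf z = 23 ∧
    x * y * z = 1 ∧ Subgroup.closure {x, y} = ⊤ :=
  gen_witness 11 11 23 (by norm_num) (by norm_num) (by norm_num) wx_11_11_23 wy_11_11_23 pr_11_11_23 lv_11_11_23
    (by decide +kernel) (by decide +kernel) (by decide +kernel) (by decide +kernel)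
    (by decide +kernel)

def wx_11_23_23 : List Bool := [true, false, true, true, true, true, false]

def wy_11_23_23 : List Bool := [true, true]

def pr_11_23_23 : List (ℕ × ℕ) := [(0, 0), (0, 2), (0, 3), (0, 4), (1, 0), (1, 1), (1, 2), (0, 6), (1, 6), (0, 7), (1, 7), (1, 3), (1, 8), (0, 9), (1, 9), (1, 12), (0, 15), (1, 15), (0, 16), (0, 19), (7, 7), (7, 22), (22, 22), (24, 24), (23, 25), (0, 1), (26, 27), (28, 28), (28, 29), (0, 8), (31, 28), (28, 31), (31, 31), (31, 29), (28, 33), (31, 33), (28, 34), (28, 35), (31, 35), (31, 36), (31, 37), (28, 38), (28, 39), (28, 40), (28, 41), (28, 43), (28, 45), (28, 47), (34, 34), (50, 50), (51, 30), (52, 52), (52, 53), (28, 32), (55, 52), (52, 55), (55, 55), (55, 53), (52, 56), (52, 57), (55, 57), (52, 58), (55, 58), (55, 54), (52, 59), (55, 59), (52, 61), (52, 62), (55, 62), (55, 70), (56, 56), (72, 72), (60, 60), (55, 56), (74, 75), (76, 76), (76, 77), (64, 64), (79, 79), (52, 60), (73, 81), (82, 76), (76, 82), (76, 83), (76, 84),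 (82, 84), (76, 85), (82, 85), (82, 86), (76, 87), (82, 88), (91, 91), (93, 93), (92, 92), (92, 95), (76, 90), (96, 97), (98, 77), (82, 91), (94, 100), (101, 77), (101, 98), (101, 99), (52, 63), (80, 105), (78, 106), (107, 77), (107, 98), (98, 107), (101, 107), (101, 108), (101, 109), (101, 110), (107, 76), (107, 83), (76, 115), (82, 115), (76, 116), (76, 118), (107, 87), (107, 89), (82, 119), (82, 120), (76, 123), (107, 101), (77, 126), (127, 127)]

def lv_11_23_23 : List (ℕ × List (ℕ × ℕ)) := [(0, [(0, 100000), (1, 5), (2, 1), (3, 2), (4, 7), (5, 8), (6, 12), (7, 14), (8, 17), (9, 0), (10, 18), (11, 6), (12, 3), (13, 10), (14, 13), (15, 15), (16, 9), (17, 19), (18, 16), (19, 11), (20, 20), (21, 4), (22, 21)]),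
  (1, [(1, 100000), (2, 43), (3, 42), (4, 35), (5, 38), (6, 48), (7, 32), (8, 46), (9, 39), (10, 28), (11, 31), (12, 49), (13, 41), (14, 44), (15, 40), (16, 33), (17, 47), (18, 36), (19, 29), (20, 45), (21, 37), (22, 34)]),
  (2, [(2, 100000), (3, 66), (4, 69), (5, 68), (6, 71), (7, 65), (8, 56), (9, 67), (10, 59), (11, 54), (12, 55), (13, 60), (14, 58), (15, 64), (16, 52), (17, 61), (18, 62), (19, 63), (20, 70), (21, 53), (22, 57)]),
  (3, [(3, 100000), (4, 122), (5, 115), (6, 83), (7, 118), (8, 84), (9, 124), (10, 123), (11, 85), (12, 120), (13, 91), (14, 117), (15, 87), (16, 121), (17, 76), (18, 119), (19, 82), (20, 89), (21, 116), (22, 125)]),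
  (4, [(4, 100000), (6, 113), (7, 112), (8, 108), (9, 104), (10, 102), (11, 107), (12, 110), (13, 99), (15, 101), (16, 77), (18, 109), (19, 114), (20, 103), (21, 111), (22, 98)]),
  (7, [(7, 100000), (10, 127), (12, 128)])]

theorem wit_11_23_23 : ∃ x y z : ↥Spor.M23, orderOf x = 11 ∧ orderOf y = 23 ∧ orderOf z = 23 ∧
    x * y * z = 1 ∧ Subgroup.closure {x, y} = ⊤ :=
  gen_witness 11 23 23 (by norm_num) (by norm_num) (by norm_num) wx_11_23_23 wy_11_23_23 pr_11_23_23 lv_11_23_23
    (by decide +kernel) (by decide +kernel) (by decide +kernel) (by decide +kernel)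
    (by decide +kernel)

def wx_23_23_23 : List Bool := [true, true, true]

def wy_23_23_23 : List Bool := [false, true, true, true, true, false]

def pr_23_23_23 : List (ℕ × ℕ) := [(0, 0), (0, 2), (1, 0), (1, 1), (1, 2), (0, 4), (1, 4), (1, 5), (1, 3), (0, 6), (1, 6), (0, 7), (1, 7), (0, 8), (1, 9), (1, 10), (0, 12), (1, 13), (0, 14), (1, 16), (4, 4), (22, 22), (22, 23), (23, 23), (25, 25), (24, 26), (0, 1), (27, 28), (29, 29), (29, 30), (29, 31), (30, 30), (33, 33), (32, 32), (35, 35), (8, 8), (37, 37), (8, 38), (38, 38), (39, 40), (0, 5), (41, 42), (29, 43), (43, 43), (43, 30), (29, 44), (43, 44), (29, 45), (43, 45), (43, 31), (29, 47), (29, 48), (29, 49), (43, 49), (43, 32), (43, 51), (29, 52), (29, 55), (43, 29), (34, 60), (61, 61), (61, 62), (61, 63), (62, 62), (65, 65), (50, 50), (67, 67), (29, 46), (68, 69), (61, 70), (70, 70), (70, 62), (61, 71), (61, 72), (70, 72), (70, 73), (70, 61), (66, 78), (70, 71), (80, 79), (79, 80), (79, 81), (80, 81), (83, 83), (83, 85), (77,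 77), (87, 87), (61, 74), (88, 89), (86, 90), (91, 91), (91, 79), (91, 80), (43, 46), (36, 95), (88, 96), (97, 79), (97, 80), (79, 97), (80, 97), (91, 97), (97, 97), (79, 98), (91, 98), (91, 101), (97, 101), (97, 102), (91, 105), (97, 61), (97, 70), (97, 62), (61, 110), (70, 110), (97, 110), (61, 112), (70, 112), (61, 115), (97, 64), (99, 99), (120, 84), (121, 91), (91, 121), (121, 121), (121, 92), (121, 122), (91, 123), (91, 124), (128, 128), (97, 81), (79, 130), (129, 131), (132, 132), (132, 121), (132, 92), (132, 122), (91, 134), (132, 128)]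

def lv_23_23_23 : List (ℕ × List (ℕ × ℕ)) := [(0, [(0, 100000), (1, 17), (2, 10), (3, 0), (4, 14), (5, 16), (6, 2), (7, 20), (8, 1), (9, 3), (10, 6), (11, 4), (12, 5), (13, 11), (14, 7), (15, 8), (16, 12), (17, 13), (18, 15), (19, 18), (20, 9), (21, 19), (22, 21)]),
  (1, [(1, 100000), (2, 31), (3, 46), (4, 53), (5, 44), (6, 47), (7, 59), (8, 51), (9, 45), (10, 58), (11, 32), (12, 29), (13, 50), (14, 57), (15, 43), (16, 52), (17, 49), (18, 30), (19, 55), (20, 56), (21, 48), (22, 54)]),
  (2, [(2, 100000), (3, 76), (4, 70), (5, 64), (6, 71), (7, 119), (8, 117), (9, 111), (10, 113), (11, 62), (12, 74), (13, 118), (14, 110), (15, 72), (16, 63), (17, 114), (18, 116), (19, 75), (20, 61), (21, 115), (22, 112)]),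
  (3, [(3, 100000), (4, 107), (5, 99), (6, 100), (7, 104), (8, 103), (9, 82), (10, 80), (11, 102), (12, 101), (13, 109), (14, 79), (15, 94), (16, 106), (17, 93), (18, 105), (19, 97), (20, 81), (21, 98), (22, 108)]),
  (4, [(4, 100000), (6, 136), (7, 138), (8, 134), (9, 124), (10, 128), (11, 92), (12, 125), (13, 127), (15, 122), (16, 126), (18, 123), (19, 91), (20, 135), (21, 121), (22, 137)]),
  (7, [(7, 100000), (10, 133), (12, 132)])]

theorem wit_23_23_23 : ∃ x y z : ↥Spor.M23, orderOf x = 23 ∧ orderOf y = 23 ∧ orderOf z = 23 ∧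
    x * y * z = 1 ∧ Subgroup.closure {x, y} = ⊤ :=
  gen_witness 23 23 23 (by norm_num) (by norm_num) (by norm_num) wx_23_23_23 wy_23_23_23 pr_23_23_23 lv_23_23_23
    (by decide +kernel) (by decide +kernel) (by decide +kernel) (by decide +kernel)
    (by decide +kernel)

end Cfsg.Agent.Helper9.Ree
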