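import Mathlib
import Cfsg.Prelude
import Cfsg.Agent.Helper9.Ree.M23PosA
import Cfsg.Agent.Helper9.Ree.M23PosB
import Cfsg.Agent.Helper9.Ree.M23PosC
import Cfsg.Agent.Helper9.Ree.M23PosD

set_option autoImplicit false

/-! the triples of prime orders which generate the Mathieu group on 23 points -/

namespace Cfsg.Agent.Helper9.Ree

open Cfsg

theorem prime_dvd_cases (p : ℕ) (hp : p.Prime) (h : p ∣ 10200960) :
    p = 2 ∨ p = 3 ∨ p = 5 ∨ p = 7 ∨ p = 11 ∨ p = 23 := by
  have e : 10200960 = 2 ^ 7 * 3 ^ 2 * 5 * 7 * 11 * 23 := by norm_num
  rw [e] at h
  have key : ∀ a : ℕ, a.Prime → p ∣ a → p = a := fun a ha hpa =>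
    (Nat.prime_dvd_prime_iff_eq hp ha).mp hpa
  rcases (Nat.Prime.dvd_mul hp).mp h with h | h
  · rcases (Nat.Prime.dvd_mul hp).mp h with h | h
    · rcases (Nat.Prime.dvd_mul hp).mp h with h | h
      · rcases (Nat.Prime.dvd_mul hp).mp h with h | h
        · rcases (Nat.Prime.dvd_mul hp).mp h with h | h
          · left
            exact key 2 (by norm_num) (hp.dvd_of_dvd_pow h)
          · right; left
            exact key 3 (by norm_num) (hp.dvd_of_dvd_pow h)
        · right; right; left
          exact key 5 (by norm_num) h
      · right; right; right; left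
        exact key 7 (by norm_num) h
    · right; right; right; right; left
      exact key 11 (by norm_num) h
  · right; right; right; right; right
    exact key 23 (by norm_num) h

theorem pos (p q r : ℕ) (hp : p.Prime) (hq : q.Prime) (hr : r.Prime) (hpq : p ≤ q) (hqr : q ≤ r)
    (hp2 : ¬ (p = 2 ∧ q = 2)) (hdvd : p ∣ 10200960 ∧ q ∣ 10200960 ∧ r ∣ 10200960)
    (hgood : ¬ ((p = 2 ∧ q = 3) ∨ (p = 2 ∧ q = 5 ∧ r = 5) ∨ (p = 2 ∧ q = 5 ∧ r = 7) ∨
      (p = 3 ∧ q = 3 ∧ r ≤ 7))) :
    ∃ x y z : ↥Spor.M23, orderOf x = p ∧ orderOf y = q ∧ orderOf z = r ∧ x * y * z = 1 ∧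
      Subgroup.closure {x, y} = ⊤ := by
  have cp := prime_dvd_cases p hp hdvd.1
  have cq := prime_dvd_cases q hq hdvd.2.1
  have cr := prime_dvd_cases r hr hdvd.2.2
  clear hdvd hp hq hr
  rcases cp with rfl | rfl | rfl | rfl | rfl | rfl
  · rcases cq with rfl | rfl | rfl | rfl | rfl | rfl
    · exfalso; omega
    · rcases cr with rfl | rfl | rfl | rfl | rfl | rfl
      · exfalso; omega
      · exfalso; omega
      · exfalso; omega
      · exfalso; omega
      · exfalso; omega
      · exfalso; omega
    · rcases cr with rfl | rfl | rfl | rfl | rfl | rfl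
      · exfalso; omega
      · exfalso; omega
      · exfalso; omega
      · exfalso; omega
      · exact wit_2_5_11
      · exact wit_2_5_23
    · rcases cr with rfl | rfl | rfl | rfl | rfl | rfl
      · exfalso; omega
      · exfalso; omega
      · exfalso; omega
      · exact wit_2_7_7
      · exact wit_2_7_11
      · exact wit_2_7_23
    · rcases cr with rfl | rfl | rfl | rfl | rfl | rfl
      · exfalso; omega
      · exfalso; omega
      · exfalso; omega
      · exfalso; omega
      · exact wit_2_11_11
      · exact wit_2_11_23
    · rcases cr with rfl | rfl | rfl | rfl | rfl | rfl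
      · exfalso; omega
      · exfalso; omega
      · exfalso; omega
      · exfalso; omega
      · exfalso; omega
      · exact wit_2_23_23
  · rcases cq with rfl | rfl | rfl | rfl | rfl | rfl
    · exfalso; omega
    · rcases cr with rfl | rfl | rfl | rfl | rfl | rfl
      · exfalso; omega
      · exfalso; omega
      · exfalso; omega
      · exfalso; omega
      · exact wit_3_3_11
      · exact wit_3_3_23
    · rcases cr with rfl | rfl | rfl | rfl | rfl | rfl
      · exfalso; omega
      · exfalso; omega
      · exact wit_3_5_5
      · exact wit_3_5_7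
      · exact wit_3_5_11
      · exact wit_3_5_23
    · rcases cr with rfl | rfl | rfl | rfl | rfl | rfl
      · exfalso; omega
      · exfalso; omega
      · exfalso; omega
      · exact wit_3_7_7
      · exact wit_3_7_11
      · exact wit_3_7_23
    · rcases cr with rfl | rfl | rfl | rfl | rfl | rfl
      · exfalso; omega
      · exfalso; omega
      · exfalso; omega
      · exfalso; omega
      · exact wit_3_11_11
      · exact wit_3_11_23
    · rcases cr with rfl | rfl | rfl | rfl | rfl | rfl
      · exfalso; omega
      · exfalso; omega
      · exfalso; omega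
      · exfalso; omega
      · exfalso; omega
      · exact wit_3_23_23
  · rcases cq with rfl | rfl | rfl | rfl | rfl | rfl
    · exfalso; omega
    · exfalso; omega
    · rcases cr with rfl | rfl | rfl | rfl | rfl | rfl
      · exfalso; omega
      · exfalso; omega
      · exact wit_5_5_5
      · exact wit_5_5_7
      · exact wit_5_5_11
      · exact wit_5_5_23
    · rcases cr with rfl | rfl | rfl | rfl | rfl | rfl
      · exfalso; omega
      · exfalso; omega
      · exfalso; omega
      · exact wit_5_7_7
      · exact wit_5_7_11
      · exact wit_5_7_23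
    · rcases cr with rfl | rfl | rfl | rfl | rfl | rfl
      · exfalso; omega
      · exfalso; omega
      · exfalso; omega
      · exfalso; omega
      · exact wit_5_11_11
      · exact wit_5_11_23
    · rcases cr with rfl | rfl | rfl | rfl | rfl | rfl
      · exfalso; omega
      · exfalso; omega
      · exfalso; omega
      · exfalso; omega
      · exfalso; omega
      · exact wit_5_23_23
  · rcases cq with rfl | rfl | rfl | rfl | rfl | rfl
    · exfalso; omega
    · exfalso; omega
    · exfalso; omega
    · rcases cr with rfl | rfl | rfl | rfl | rfl | rfl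
      · exfalso; omega
      · exfalso; omega
      · exfalso; omega
      · exact wit_7_7_7
      · exact wit_7_7_11
      · exact wit_7_7_23
    · rcases cr with rfl | rfl | rfl | rfl | rfl | rfl
      · exfalso; omega
      · exfalso; omega
      · exfalso; omega
      · exfalso; omega
      · exact wit_7_11_11
      · exact wit_7_11_23
    · rcases cr with rfl | rfl | rfl | rfl | rfl | rfl
      · exfalso; omega
      · exfalso; omega
      · exfalso; omega
      · exfalso; omega
      · exfalso; omega
      · exact wit_7_23_23
  · rcases cq with rfl | rfl | rfl | rfl | rfl | rfl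
    · exfalso; omega
    · exfalso; omega
    · exfalso; omega
    · exfalso; omega
    · rcases cr with rfl | rfl | rfl | rfl | rfl | rfl
      · exfalso; omega
      · exfalso; omega
      · exfalso; omega
      · exfalso; omega
      · exact wit_11_11_11
      · exact wit_11_11_23
    · rcases cr with rfl | rfl | rfl | rfl | rfl | rfl
      · exfalso; omega
      · exfalso; omega
      · exfalso; omega
      · exfalso; omega
      · exfalso; omega
      · exact wit_11_23_23
  · rcases cq with rfl | rfl | rfl | rfl | rfl | rfl
    · exfalso; omega
    · exfalso; omega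
    · exfalso; omega
    · exfalso; omega
    · exfalso; omega
    · rcases cr with rfl | rfl | rfl | rfl | rfl | rfl
      · exfalso; omega
      · exfalso; omega
      · exfalso; omega
      · exfalso; omega
      · exfalso; omega
      · exact wit_23_23_23

end Cfsg.Agent.Helper9.Ree
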